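import Groth.Agent.L28.AWN.Funct
import Mathlib.FieldTheory.Perfect
import Mathlib.Algebra.CharP.Reduced
import Mathlib.RingTheory.Localization.Integral
import Mathlib.RingTheory.LocalProperties.Reduced
import Mathlib.FieldTheory.IsAlgClosed.Basic

/-!
Elementary facts on seminormal and absolutely weakly normal rings.
-/

set_option autoImplicit false
universe u

namespace Groth.L28.AWN

variable {A : Type u} [CommRing A]

theorem eq_of_sq_cube [IsReduced A] {a b : A} (h2 : a ^ 2 = b ^ 2) (h3 : a ^ 3 = b ^ 3) : a = b :=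
  sub_eq_zero.mp (IsReduced.eq_zero _ ⟨3, by linear_combination (4 : A) * h3 - 3 * b * h2 - 3 * a * h2⟩)

theorem eq_of_pow_mul [IsReduced A] {p : ℕ} (hp : p.Prime) {a b : A}
    (h1 : a ^ p = b ^ p) (h2 : (p : A) * a = (p : A) * b) : a = b := by
  have h0 : (p : A) * (a - b) = 0 := by rw [mul_sub, h2, sub_self]
  obtain ⟨r, hr⟩ := exists_add_pow_prime_eq hp b (a - b)
  rw [show b + (a - b) = a by ring,
    show (p : A) * b * (a - b) * r = b * r * ((p : A) * (a - b)) by ring, h0, mul_zero, add_zero,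
    h1] at hr
  exact sub_eq_zero.mp (IsReduced.eq_zero _ ⟨p, (add_eq_left.mp hr.symm : (a - b) ^ p = 0)⟩)

theorem isReduced_of_isSeminormalRing (h : HTop.IsSeminormalRing A) : IsReduced A := by
  have h2 : ∀ x : A, x ^ 2 = 0 → x = 0 := fun x hx =>
    (h 0 0 (by simp)).unique (y₁ := x) (y₂ := 0)
      ⟨hx.symm, by rw [pow_succ, hx, zero_mul]⟩ ⟨by simp, by simp⟩
  refine (isReduced_iff_pow_one_lt 2 one_lt_two).mpr fun x hx => h2 x hx

theorem exists_sq_cube_field {K : Type u} [Field K] {x y : K} (h : x ^ 3 = y ^ 2) :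
    ∃ a, x = a ^ 2 ∧ y = a ^ 3 := by
  rcases eq_or_ne x 0 with rfl | hx
  · exact ⟨0, by simp, by
      rw [zero_pow (by norm_num), eq_comm, sq_eq_zero_iff] at h
      simp [h]⟩
  · refine ⟨y / x, ?_, ?_⟩
    · field_simp
      linear_combination h
    · field_simp
      linear_combination y * h

theorem exists_pow_mul_field {K : Type u} [Field K] [IsAlgClosed K] {p : ℕ} (hp : p.Prime)
    {x y : K} (h : (p : K) ^ p * x = y ^ p) : ∃ a, x = a ^ p ∧ y = (p : K) * a := by
  rcases eq_or_ne (p : K) 0 with hp0 | hp0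
  · obtain ⟨a, ha⟩ := IsAlgClosed.exists_pow_nat_eq x hp.pos
    refine ⟨a, ha.symm, ?_⟩
    rw [hp0, zero_pow hp.ne_zero, zero_mul, eq_comm, pow_eq_zero_iff hp.ne_zero] at h
    rw [h, hp0, zero_mul]
  · refine ⟨y / p, ?_, (mul_div_cancel₀ y hp0).symm⟩
    rw [div_pow, ← h, mul_div_cancel_left₀ _ (pow_ne_zero _ hp0)]

theorem exists_sq_cube_pts (B : Type u) [CommRing B] {x y : Pts B} (h : x ^ 3 = y ^ 2) :
    ∃ a : Pts B, x = a ^ 2 ∧ y = a ^ 3 := by
  choose a ha1 ha2 using fun t => exists_sq_cube_field (congrFun h t)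
  exact ⟨a, funext ha1, funext ha2⟩

theorem exists_pow_mul_pts (B : Type u) [CommRing B] {p : ℕ} (hp : p.Prime) {x y : Pts B}
    (h : (p : Pts B) ^ p * x = y ^ p) : ∃ a : Pts B, x = a ^ p ∧ y = (p : Pts B) * a := by
  choose a ha1 ha2 using fun t => exists_pow_mul_field hp (congrFun h t)
  exact ⟨a, funext ha1, funext ha2⟩

theorem mem_awn_of_ext (a : Pts A) (hint : IsIntegral A a)
    (h : ∀ (S : Subalgebra A (Pts A)) (ha : a ∈ S) (hle : awn A ≤ S) (K : Type u) [Field K]
      (f g : S →+* K), (∀ x (hx : x ∈ awn A), f ⟨x, hle hx⟩ = g ⟨x, hle hx⟩) →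
        f ⟨a, ha⟩ = g ⟨a, ha⟩) :
    a ∈ awn A := by
  obtain ⟨S, hSa, hSle, hSint, hSmin⟩ : ∃ S : Subalgebra A (Pts A), a ∈ S ∧ awn A ≤ S ∧
      S ≤ integralClosure A (Pts A) ∧ ∀ E : Subalgebra A (Pts A), awn A ≤ E → a ∈ E → S ≤ E := by
    refine ⟨awn A ⊔ Algebra.adjoin A {a}, ?_, le_sup_left, ?_, fun E h1 h2 =>
      sup_le h1 (Algebra.adjoin_le (Set.singleton_subset_iff.mpr h2))⟩
    · exact (le_sup_right (a := awn A)) (Algebra.subset_adjoin rfl)
    · exact sup_le (fun z hz => IsIntegral.map (awn A).val ((isUH_awn (A := A)).integral ⟨z, hz⟩))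
        (Algebra.adjoin_le (Set.singleton_subset_iff.mpr hint))
  have hS : IsUH (algebraMap A S) := by
    refine ⟨fun x => (isIntegral_algHom_iff S.val Subtype.val_injective).mp (hSint x.2),
      fun K _ f g hfg => ?_, fun c hc =>
      isNilpotent_of_algebraMap_pts c (congrArg Subtype.val hc)⟩
    have h1 := isUH_awn.hom_ext K (f.comp (Subalgebra.inclusion hSle).toRingHom)
      (g.comp (Subalgebra.inclusion hSle).toRingHom) hfg
    let E : Subalgebra A (Pts A) :=
      { carrier := {z | ∃ hz : z ∈ S, f ⟨z, hz⟩ = g ⟨z, hz⟩}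
        mul_mem' := fun {a b} ⟨ha, ea⟩ ⟨hb, eb⟩ => ⟨mul_mem ha hb,
          ((map_mul f ⟨a, ha⟩ ⟨b, hb⟩).trans (by rw [ea, eb])).trans (map_mul g ⟨a, ha⟩ ⟨b, hb⟩).symm⟩
        add_mem' := fun {a b} ⟨ha, ea⟩ ⟨hb, eb⟩ => ⟨add_mem ha hb,
          ((map_add f ⟨a, ha⟩ ⟨b, hb⟩).trans (by rw [ea, eb])).trans (map_add g ⟨a, ha⟩ ⟨b, hb⟩).symm⟩
        algebraMap_mem' := fun c => ⟨Subalgebra.algebraMap_mem _ c, RingHom.congr_fun hfg c⟩ }
    have hle : S ≤ E := hSmin E (fun z hz => ⟨hSle hz, RingHom.congr_fun h1 ⟨z, hz⟩⟩)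
      ⟨hSa, h S hSa hSle K f g fun z hz => RingHom.congr_fun h1 ⟨z, hz⟩⟩
    exact RingHom.ext fun z => (hle z.2).2
  have hle : S ≤ awn A := le_sSup (α := Subalgebra A (Pts A)) hS
  exact hle hSa

theorem isIntegral_pts_of_pow {a : Pts A} {n : ℕ} (hn : 0 < n) {x : awn A} (h : a ^ n = x.1) :
    IsIntegral A a :=
  IsIntegral.of_pow hn (h ▸ IsIntegral.map (awn A).val ((isUH_awn (A := A)).integral x))

theorem isAWNRing_awn : HTop.IsAWNRing (awn A) := by
  have hred : IsReduced (awn A) := isReduced_of_injective (awn A).val Subtype.val_injective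
  refine ⟨fun x y hxy => ?_, fun p hp x y hxy => ?_⟩
  · obtain ⟨a, ha2, ha3⟩ := exists_sq_cube_pts A (x := x.1) (y := y.1) (congrArg Subtype.val hxy)
    have ha : a ∈ awn A := by
      refine mem_awn_of_ext a (isIntegral_pts_of_pow two_pos ha2.symm) fun S hS hle K _ f g hfg =>
        eq_of_sq_cube ?_ ?_
      · rw [← map_pow, ← map_pow]
        have := hfg _ x.2
        simp only [ha2] at this
        exact this
      · rw [← map_pow, ← map_pow]
        have := hfg _ y.2
        simp only [ha3] at this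
        exact this
    refine ⟨⟨a, ha⟩, ⟨Subtype.ext ha2, Subtype.ext ha3⟩, fun b hb => ?_⟩
    exact eq_of_sq_cube (hb.1.symm.trans (Subtype.ext ha2)) (hb.2.symm.trans (Subtype.ext ha3))
  · obtain ⟨a, ha1, ha2⟩ := exists_pow_mul_pts A hp (x := x.1) (y := y.1)
      ((by simp : _ = _).trans ((congrArg Subtype.val hxy).trans (by simp)))
    have ha : a ∈ awn A := by
      refine mem_awn_of_ext a (isIntegral_pts_of_pow hp.pos ha1.symm) fun S hS hle K _ f g hfg =>
        eq_of_pow_mul hp ?_ ?_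
      · rw [← map_pow, ← map_pow]
        have := hfg _ x.2
        simp only [ha1] at this
        exact this
      · rw [← map_natCast f, ← map_mul, map_natCast f, ← map_natCast g, ← map_mul]
        have := hfg _ y.2
        simp only [ha2] at this
        exact this
    refine ⟨⟨a, ha⟩, ⟨Subtype.ext ha1, Subtype.ext (by simp [ha2])⟩, fun b hb => ?_⟩
    exact eq_of_pow_mul hp (hb.1.symm.trans (Subtype.ext ha1))
      (hb.2.symm.trans (Subtype.ext (by simp [ha2])))

/-- Invariance under isomorphism. -/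
theorem isSeminormalRing_congr {B : Type u} [CommRing B] (e : A ≃+* B)
    (h : HTop.IsSeminormalRing A) : HTop.IsSeminormalRing B := by
  intro x y hxy
  obtain ⟨a, ⟨h1, h2⟩, hu⟩ := h (e.symm x) (e.symm y) (by rw [← map_pow, ← map_pow, hxy])
  refine ⟨e a, ⟨by rw [← map_pow, ← h1, e.apply_symm_apply],
    by rw [← map_pow, ← h2, e.apply_symm_apply]⟩, fun b ⟨hb1, hb2⟩ => ?_⟩
  rw [← hu (e.symm b) ⟨by rw [hb1, map_pow], by rw [hb2, map_pow]⟩, e.apply_symm_apply]

theorem isAWNRing_congr {B : Type u} [CommRing B] (e : A ≃+* B) (h : HTop.IsAWNRing A) :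
    HTop.IsAWNRing B := by
  refine ⟨isSeminormalRing_congr e h.1, fun p hp x y hxy => ?_⟩
  obtain ⟨a, ⟨h1, h2⟩, hu⟩ := h.2 p hp (e.symm x) (e.symm y)
    (by rw [← map_natCast e.symm, ← map_pow, ← map_mul, hxy, map_pow])
  refine ⟨e a, ⟨by rw [← map_pow, ← h1, e.apply_symm_apply],
    by rw [← map_natCast e, ← map_mul, ← h2, e.apply_symm_apply]⟩, fun b ⟨hb1, hb2⟩ => ?_⟩
  rw [← hu (e.symm b) ⟨by rw [hb1, map_pow], by rw [hb2, map_mul, map_natCast]⟩,
    e.apply_symm_apply]

theorem isAWNRing_of_perfect (p : ℕ) [Fact p.Prime] [CharP A p] [PerfectRing A p] :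
    HTop.IsAWNRing A := by
  have hp : p.Prime := Fact.out
  have hred : IsReduced A := (isReduced_iff_pow_one_lt p hp.one_lt).mpr fun x hx =>
    (bijective_frobenius A p).1 (by rw [map_zero, frobenius_def, hx])
  have hroot : ∀ z : A, ∃ a : A, a ^ p = z := fun z => (bijective_frobenius A p).2 z
  have hinj : ∀ a b : A, a ^ p = b ^ p → a = b := fun a b h => (bijective_frobenius A p).1 h
  constructor
  · intro x y hxy
    obtain ⟨i, j, hij⟩ : ∃ i j, p = 2 * i + 3 * j := by
      rcases hp.eq_two_or_odd with h | h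
      · exact ⟨1, 0, by omega⟩
      · exact ⟨(p - 3) / 2, 1, by have := hp.two_le; omega⟩
    obtain ⟨a, ha⟩ := hroot (x ^ i * y ^ j)
    refine ⟨a, ⟨hinj _ _ ?_, hinj _ _ ?_⟩, fun b hb => ?_⟩
    · rw [← pow_mul, mul_comm 2 p, pow_mul, ha, mul_pow, ← pow_mul, ← pow_mul, mul_comm j 2,
        pow_mul y 2, ← hxy, ← pow_mul, ← pow_add, hij, mul_comm i 2]
    · rw [← pow_mul, mul_comm 3 p, pow_mul, ha, mul_pow, ← pow_mul, ← pow_mul, mul_comm i 3,
        pow_mul x 3, hxy, ← pow_mul, ← pow_add, hij, mul_comm j 3]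
    · refine eq_of_sq_cube (hb.1.symm.trans (hinj _ _ ?_)) (hb.2.symm.trans (hinj _ _ ?_))
      · rw [← pow_mul, mul_comm 2 p, pow_mul, ha, mul_pow, ← pow_mul, ← pow_mul, mul_comm j 2,
          pow_mul y 2, ← hxy, ← pow_mul, ← pow_add, hij, mul_comm i 2]
      · rw [← pow_mul, mul_comm 3 p, pow_mul, ha, mul_pow, ← pow_mul, ← pow_mul, mul_comm i 3,
          pow_mul x 3, hxy, ← pow_mul, ← pow_add, hij, mul_comm j 3]
  · intro q hq x y hxy
    rcases eq_or_ne q p with rfl | hne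
    · rw [CharP.cast_eq_zero A q, zero_pow hq.ne_zero, zero_mul, eq_comm] at hxy
      obtain rfl : y = 0 := IsReduced.eq_zero _ ⟨q, hxy⟩
      obtain ⟨a, ha⟩ := hroot x
      exact ⟨a, ⟨ha.symm, by simp⟩, fun b hb => hinj _ _ (hb.1.symm.trans ha.symm)⟩
    · have hu : IsUnit (q : A) := by
        have := (ZMod.isUnit_prime_of_not_dvd hq ((Nat.prime_dvd_prime_iff_eq hq hp).not.mpr hne)).map
          (ZMod.castHom (dvd_refl p) A)
        rwa [map_natCast] at this
      obtain ⟨u, hu'⟩ := hu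
      refine ⟨↑u⁻¹ * y, ⟨?_, by rw [← hu', Units.mul_inv_cancel_left]⟩, fun b hb => ?_⟩
      · rw [mul_pow, ← hxy, ← mul_assoc, ← mul_pow, ← hu', Units.inv_mul, one_pow, one_mul]
      · rw [hb.2, ← hu', Units.inv_mul_cancel_left]

theorem perfectRing_of_isAWNRing (p : ℕ) [Fact p.Prime] [CharP A p] (h : HTop.IsAWNRing A) :
    PerfectRing A p := by
  have hp : p.Prime := Fact.out
  have := isReduced_of_isSeminormalRing h.1
  refine ⟨⟨frobenius_inj A p, fun x => ?_⟩⟩
  obtain ⟨a, ⟨ha, -⟩, -⟩ := h.2 p hp x 0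
    (by rw [CharP.cast_eq_zero A p, zero_pow hp.ne_zero, zero_mul])
  exact ⟨a, ha.symm⟩

section localization

variable {B : Type u} [CommRing B] [Algebra A B]

theorem isSeminormalRing_localization (M : Submonoid A) [IsLocalization M B]
    (h : HTop.IsSeminormalRing A) : HTop.IsSeminormalRing B := by
  have := isReduced_of_isSeminormalRing h
  have : IsReduced B := isReduced_localizationPreserves M B inferInstance
  intro x y hxy
  obtain ⟨⟨a, s⟩, hx⟩ := IsLocalization.surj M x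
  obtain ⟨⟨b, t⟩, hy⟩ := IsLocalization.surj M y
  simp only at hx hy
  obtain ⟨w, hw⟩ := (IsLocalization.eq_iff_exists M B).mp
    (show algebraMap A B (a ^ 3 * t.1 ^ 2) = algebraMap A B (b ^ 2 * s.1 ^ 3) by
      simp only [map_mul, map_pow, ← hx, ← hy, mul_pow, hxy]; ring)
  let d := s.1 * t.1 * w.1
  obtain ⟨c, ⟨hc2, hc3⟩, -⟩ := h (a * s.1 * t.1 ^ 2 * w.1 ^ 2)
    (b * s.1 ^ 3 * t.1 ^ 2 * w.1 ^ 3)
    (by linear_combination (s.1 ^ 3 * t.1 ^ 4 * w.1 ^ 5) * hw)
  obtain ⟨u, hu⟩ := IsLocalization.map_units B (⟨d, mul_mem (mul_mem s.2 t.2) w.2⟩ : M)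
  simp only at hu
  have h2 : x = (algebraMap A B c * ↑u⁻¹) ^ 2 := by
    rw [mul_pow, ← map_pow, ← hc2, ← Units.val_pow_eq_pow_val, inv_pow, Units.eq_mul_inv_iff_mul_eq,
      Units.val_pow_eq_pow_val, hu]
    simp only [d, map_mul, map_pow, ← hx]
    ring
  have h3 : y = (algebraMap A B c * ↑u⁻¹) ^ 3 := by
    rw [mul_pow, ← map_pow, ← hc3, ← Units.val_pow_eq_pow_val, inv_pow, Units.eq_mul_inv_iff_mul_eq,
      Units.val_pow_eq_pow_val, hu]
    simp only [d, map_mul, map_pow, ← hy]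
    ring
  exact ⟨_, ⟨h2, h3⟩, fun c' hc' => eq_of_sq_cube (hc'.1.symm.trans h2) (hc'.2.symm.trans h3)⟩

theorem isAWNRing_localization (M : Submonoid A) [IsLocalization M B]
    (h : HTop.IsAWNRing A) : HTop.IsAWNRing B := by
  have := isReduced_of_isSeminormalRing h.1
  have : IsReduced B := isReduced_localizationPreserves M B inferInstance
  refine ⟨isSeminormalRing_localization M h.1, fun p hp x y hxy => ?_⟩
  obtain ⟨⟨a, s⟩, hx⟩ := IsLocalization.surj M x
  obtain ⟨⟨b, t⟩, hy⟩ := IsLocalization.surj M y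
  simp only at hx hy
  obtain ⟨w, hw⟩ := (IsLocalization.eq_iff_exists M B).mp
    (show algebraMap A B ((p : A) ^ p * a * t.1 ^ p) = algebraMap A B (b ^ p * s.1) by
      simp only [map_mul, map_pow, map_natCast, ← hx, ← hy, mul_pow]
      linear_combination (algebraMap A B s.1 * algebraMap A B t.1 ^ p) * hxy)
  let d := s.1 * t.1 * w.1
  obtain ⟨n, rfl⟩ : ∃ n, p = n + 1 := ⟨p - 1, (Nat.succ_pred_eq_of_pos hp.pos).symm⟩
  obtain ⟨c, ⟨hc2, hc3⟩, -⟩ := h.2 (n + 1) hp
    (a * s.1 ^ n * t.1 ^ (n + 1) * w.1 ^ (n + 1)) (b * s.1 * w.1)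
    (by
      calc _ = (s.1 ^ n * w.1 ^ n) * (w.1 * (((n + 1 : ℕ) : A) ^ (n + 1) * a * t.1 ^ (n + 1))) := by
            ring
        _ = (s.1 ^ n * w.1 ^ n) * (w.1 * (b ^ (n + 1) * s.1)) := by rw [hw]
        _ = _ := by ring)
  obtain ⟨u, hu⟩ := IsLocalization.map_units B (⟨d, mul_mem (mul_mem s.2 t.2) w.2⟩ : M)
  simp only at hu
  have h2 : x = (algebraMap A B c * ↑u⁻¹) ^ (n + 1) := by
    rw [mul_pow, ← map_pow, ← hc2, ← Units.val_pow_eq_pow_val, inv_pow, Units.eq_mul_inv_iff_mul_eq,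
      Units.val_pow_eq_pow_val, hu]
    simp only [d, map_mul, map_pow, ← hx]
    ring
  have h3 : y = ((n + 1 : ℕ) : B) * (algebraMap A B c * ↑u⁻¹) := by
    rw [← mul_assoc, ← map_natCast (algebraMap A B) (n + 1), ← map_mul, ← hc3,
      Units.eq_mul_inv_iff_mul_eq, hu]
    simp only [d, map_mul, ← hy]
    ring
  exact ⟨_, ⟨h2, h3⟩, fun c' hc' => eq_of_pow_mul hp (hc'.1.symm.trans h2) (hc'.2.symm.trans h3)⟩

end localization

section gluing

theorem mem_range_of_local (s : Finset A) (hs : Ideal.span (s : Set A) = ⊤) (a : Pts A)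
    (h : ∀ f ∈ s, ∃ (n : ℕ) (c : A), ∀ t : PrimeSpectrum A, f ∉ t.asIdeal →
      (algebraMap A (Pts A) (f ^ n) * a) t = algebraMap A (Pts A) c t) :
    ∃ c, algebraMap A (Pts A) c = a := by
  let J : Ideal A := Submodule.comap (LinearMap.toSpanSingleton A (Pts A) a)
    (LinearMap.range (Algebra.linearMap A (Pts A)))
  have hJ : J = ⊤ := by
    by_contra hJ
    obtain ⟨m, hm, hJm⟩ := Ideal.exists_le_maximal J hJ
    have : ∀ f ∈ s, f ∈ m := fun f hf => by
      obtain ⟨n, c, hc⟩ := h f hf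
      refine hm.isPrime.mem_of_pow_mem (n + 1) (hJm ⟨f * c, funext fun t => ?_⟩)
      show algebraMap A (Pts A) (f * c) t = (f ^ (n + 1) • a) t
      rw [Algebra.smul_def, pow_succ', map_mul, map_mul, mul_assoc]
      rcases em (f ∈ t.asIdeal) with hft | hft
      · rw [Pi.mul_apply, Pi.mul_apply, algebraMap_pts_of_mem f t hft, zero_mul, zero_mul]
      · rw [Pi.mul_apply, Pi.mul_apply, hc t hft]
    exact hm.ne_top (top_le_iff.mp (hs ▸ Ideal.span_le.mpr this))
  obtain ⟨c, hc⟩ := (hJ ▸ Submodule.mem_top : (1 : A) ∈ J)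
  exact ⟨c, hc.trans (by simp)⟩

theorem injective_algebraMap_pts [IsReduced A] : Function.Injective (algebraMap A (Pts A)) :=
  (injective_iff_map_eq_zero _).mpr fun a ha =>
    IsReduced.eq_zero a (isNilpotent_of_algebraMap_pts a ha)

theorem isReduced_of_local (s : Finset A) (hs : Ideal.span (s : Set A) = ⊤)
    (h : ∀ f ∈ s, IsReduced (Localization.Away f)) : IsReduced A := by
  refine ⟨fun x hx => ?_⟩
  let J : Ideal A := (⊥ : Submodule A A).colon {x}
  have hJ : J = ⊤ := by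
    by_contra hJ
    obtain ⟨m, hm, hJm⟩ := Ideal.exists_le_maximal J hJ
    have : ∀ f ∈ s, f ∈ m := fun f hf => by
      have := h f hf
      obtain ⟨⟨_, n, rfl⟩, hn⟩ := (IsLocalization.map_eq_zero_iff (Submonoid.powers f) _ x).mp
        (IsReduced.eq_zero _ (hx.map (algebraMap A (Localization.Away f))))
      exact hm.isPrime.mem_of_pow_mem n (hJm (by simpa [J, Submodule.mem_colon_singleton] using hn))
    exact hm.ne_top (top_le_iff.mp (hs ▸ Ideal.span_le.mpr this))
  have h1 : (1 : A) ∈ J := hJ ▸ Submodule.mem_top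
  simpa [J, Submodule.mem_colon_singleton] using h1

/-- The point of `Localization.Away f` over a point where `f` does not vanish. -/
theorem exists_local_value (f : A) (c : Localization.Away f) : ∃ (n : ℕ) (c₀ : A),
    ∀ (t : PrimeSpectrum A) (ht : IsUnit (algebraMap A (AlgebraicClosure t.asIdeal.ResidueField) f)),
      algebraMap A (AlgebraicClosure t.asIdeal.ResidueField) (f ^ n) *
        IsLocalization.Away.lift f ht c =
      algebraMap A (AlgebraicClosure t.asIdeal.ResidueField) c₀ := by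
  obtain ⟨n, c₀, h⟩ := IsLocalization.Away.surj f c
  refine ⟨n, c₀, fun t ht => ?_⟩
  have := congrArg (IsLocalization.Away.lift f ht) h
  rw [map_mul, map_pow, IsLocalization.Away.lift_eq, IsLocalization.Away.lift_eq] at this
  rw [map_pow, mul_comm]
  exact this

theorem isUnit_pts {f : A} {t : PrimeSpectrum A} (ht : f ∉ t.asIdeal) :
    IsUnit (algebraMap A (AlgebraicClosure t.asIdeal.ResidueField) f) := by
  rw [isUnit_iff_ne_zero, IsScalarTower.algebraMap_apply A t.asIdeal.ResidueField,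
    _root_.map_ne_zero]
  exact fun h => ht (Ideal.algebraMap_residueField_eq_zero.mp h)

theorem isSeminormalRing_of_local (s : Finset A) (hs : Ideal.span (s : Set A) = ⊤)
    (h : ∀ f ∈ s, HTop.IsSeminormalRing (Localization.Away f)) : HTop.IsSeminormalRing A := by
  have := isReduced_of_local s hs fun f hf => isReduced_of_isSeminormalRing (h f hf)
  intro x y hxy
  obtain ⟨a, ha2, ha3⟩ := exists_sq_cube_pts A (x := algebraMap A (Pts A) x)
    (y := algebraMap A (Pts A) y) (by rw [← map_pow, hxy, map_pow])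
  obtain ⟨c, rfl⟩ := mem_range_of_local s hs a fun f hf => by
    obtain ⟨c, ⟨hc2, hc3⟩, -⟩ := h f hf (algebraMap A _ x) (algebraMap A _ y)
      (by rw [← map_pow, hxy, map_pow])
    obtain ⟨n, c₀, hc₀⟩ := exists_local_value f c
    refine ⟨n, c₀, fun t ht => ?_⟩
    rw [Pi.mul_apply]
    have e2 := congrArg (IsLocalization.Away.lift f (isUnit_pts ht)) hc2
    have e3 := congrArg (IsLocalization.Away.lift f (isUnit_pts ht)) hc3
    rw [IsLocalization.Away.lift_eq, map_pow] at e2 e3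
    rw [show a t = IsLocalization.Away.lift f (isUnit_pts ht) c from
      eq_of_sq_cube ((congrFun ha2 t).symm.trans e2) ((congrFun ha3 t).symm.trans e3)]
    exact hc₀ t _
  have i2 : x = c ^ 2 := injective_algebraMap_pts (ha2.trans (map_pow _ _ _).symm)
  have i3 : y = c ^ 3 := injective_algebraMap_pts (ha3.trans (map_pow _ _ _).symm)
  exact ⟨c, ⟨i2, i3⟩, fun b hb => eq_of_sq_cube (hb.1.symm.trans i2) (hb.2.symm.trans i3)⟩

theorem isAWNRing_of_local (s : Finset A) (hs : Ideal.span (s : Set A) = ⊤)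
    (h : ∀ f ∈ s, HTop.IsAWNRing (Localization.Away f)) : HTop.IsAWNRing A := by
  have := isReduced_of_local s hs fun f hf => isReduced_of_isSeminormalRing (h f hf).1
  refine ⟨isSeminormalRing_of_local s hs fun f hf => (h f hf).1, fun p hp x y hxy => ?_⟩
  obtain ⟨a, ha1, ha2⟩ := exists_pow_mul_pts A hp (x := algebraMap A (Pts A) x)
    (y := algebraMap A (Pts A) y) (by rw [← map_pow, ← hxy, map_mul, map_pow, map_natCast])
  obtain ⟨c, rfl⟩ := mem_range_of_local s hs a fun f hf => by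
    obtain ⟨c, ⟨hc1, hc2⟩, -⟩ := (h f hf).2 p hp (algebraMap A _ x) (algebraMap A _ y)
      (by rw [← map_pow (algebraMap A (Localization.Away f)) y, ← hxy, map_mul, map_pow, map_natCast])
    obtain ⟨n, c₀, hc₀⟩ := exists_local_value f c
    refine ⟨n, c₀, fun t ht => ?_⟩
    rw [Pi.mul_apply]
    have e1 := congrArg (IsLocalization.Away.lift f (isUnit_pts ht)) hc1
    have e2 := congrArg (IsLocalization.Away.lift f (isUnit_pts ht)) hc2
    rw [IsLocalization.Away.lift_eq, map_pow] at e1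
    rw [IsLocalization.Away.lift_eq, map_mul, map_natCast] at e2
    rw [show a t = IsLocalization.Away.lift f (isUnit_pts ht) c from
      eq_of_pow_mul hp ((congrFun ha1 t).symm.trans e1) ((congrFun ha2 t).symm.trans e2)]
    exact hc₀ t _
  have i1 : x = c ^ p := injective_algebraMap_pts (ha1.trans (map_pow _ _ _).symm)
  have i2 : y = (p : A) * c := injective_algebraMap_pts (ha2.trans (by rw [map_mul, map_natCast]))
  exact ⟨c, ⟨i1, i2⟩, fun b hb => eq_of_pow_mul hp (hb.1.symm.trans i1) (hb.2.symm.trans i2)⟩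

end gluing

end Groth.L28.AWN
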