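import Groth.Agent.L28.AWN.Basic
import Groth.Agent.L05.EtaPt.Scheme
import Mathlib.FieldTheory.PurelyInseparable.Basic
import Mathlib.RingTheory.TensorProduct.Maps

/-!
Weak normalization inside an integral extension.
-/

set_option autoImplicit false
universe u

open CategoryTheory AlgebraicGeometry
open scoped TensorProduct

namespace Groth.L28.AWN

variable (A B : Type u) [CommRing A] [CommRing B] [Algebra A B]

/-- The equalizer of `B ⇉ (B ⊗ B)_red`. -/
noncomputable def weakEq : Subalgebra A B :=
  AlgHom.equalizer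
    ((Ideal.Quotient.mkₐ A (nilradical (B ⊗[A] B))).comp Algebra.TensorProduct.includeLeft)
    ((Ideal.Quotient.mkₐ A (nilradical (B ⊗[A] B))).comp Algebra.TensorProduct.includeRight)

lemma mem_weakEq {b : B} : b ∈ weakEq A B ↔ IsNilpotent (b ⊗ₜ[A] (1 : B) - (1 : B) ⊗ₜ[A] b) := by
  show Ideal.Quotient.mk _ (b ⊗ₜ[A] (1 : B)) = Ideal.Quotient.mk _ ((1 : B) ⊗ₜ[A] b) ↔ _
  rw [Ideal.Quotient.eq, mem_nilradical]

variable {A B}

theorem isUH_weakEq (hinj : Function.Injective (algebraMap A B)) [Algebra.IsIntegral A B] :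
    IsUH (algebraMap A (weakEq A B)) := by
  have hE : (algebraMap A (weakEq A B)).IsIntegral := fun x =>
    (isIntegral_algHom_iff (weakEq A B).val Subtype.val_injective).mp
      (Algebra.IsIntegral.isIntegral (x : B))
  refine ⟨hE, fun K _ f g hfg => ?_, fun a ha => ?_⟩
  · let ι := algebraMap K (AlgebraicClosure K)
    have hi : ((weakEq A B).val.toRingHom : weakEq A B →+* B).IsIntegral := fun b => by
      obtain ⟨p, hp, hp'⟩ := Algebra.IsIntegral.isIntegral (R := A) b
      refine ⟨p.map (algebraMap A (weakEq A B)), hp.map _, ?_⟩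
      rw [Polynomial.eval₂_map]
      exact hp'
    have hn : ∀ e : weakEq A B, (weakEq A B).val.toRingHom e = 0 → IsNilpotent e := fun e he => by
      rw [show e = 0 from Subtype.ext he]
      exact IsNilpotent.zero
    obtain ⟨f', hf'⟩ := exists_lift_of_integral hi hn (ι.comp f)
    obtain ⟨g', hg'⟩ := exists_lift_of_integral hi hn (ι.comp g)
    algebraize [(ι.comp f).comp (algebraMap A (weakEq A B))]
    let fA : B →ₐ[A] AlgebraicClosure K :=
      { f' with commutes' := fun a => RingHom.congr_fun hf' (algebraMap A (weakEq A B) a) }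
    let gA : B →ₐ[A] AlgebraicClosure K :=
      { g' with
        commutes' := fun a => (RingHom.congr_fun hg' (algebraMap A (weakEq A B) a)).trans
          (congrArg ι (RingHom.congr_fun hfg a).symm) }
    refine RingHom.ext fun x => ι.injective ?_
    have h0 := (((mem_weakEq A B).mp x.2).map
      (Algebra.TensorProduct.lift fA gA fun _ _ => Commute.all _ _)).eq_zero
    rw [map_sub, Algebra.TensorProduct.lift_tmul, Algebra.TensorProduct.lift_tmul, map_one, map_one,
      mul_one, one_mul, sub_eq_zero] at h0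
    exact (RingHom.congr_fun hf' x).symm.trans (h0.trans (RingHom.congr_fun hg' x))
  · rw [hinj ((congrArg Subtype.val ha).trans (map_zero (algebraMap A B)).symm)]
    exact IsNilpotent.zero

theorem le_weakEq (C : Subalgebra A B) (hC : IsUH (algebraMap A C)) : C ≤ weakEq A B := by
  intro b hb
  rw [mem_weakEq, ← mem_nilradical, nilradical_eq_sInf, Ideal.mem_sInf]
  intro p hp
  have : p.IsPrime := hp
  let π : B ⊗[A] B →+* p.ResidueField := algebraMap _ _
  have := RingHom.congr_fun (hC.hom_ext _
    ((π.comp (Algebra.TensorProduct.includeLeft : B →ₐ[A] B ⊗[A] B).toRingHom).comp C.val.toRingHom)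
    ((π.comp (Algebra.TensorProduct.includeRight : B →ₐ[A] B ⊗[A] B).toRingHom).comp C.val.toRingHom)
    (RingHom.ext fun a => congrArg π
      (((Algebra.TensorProduct.includeLeft : B →ₐ[A] B ⊗[A] B).commutes a).trans
        ((Algebra.TensorProduct.includeRight : B →ₐ[A] B ⊗[A] B).commutes a).symm))) ⟨b, hb⟩
  rw [← Ideal.algebraMap_residueField_eq_zero, map_sub, sub_eq_zero]
  exact this

theorem residueFieldsIso_of_trivial_pi_closure (hinj : Function.Injective (algebraMap A B))
    (hpi : ∀ p : PrimeSpectrum A, ∃ q : PrimeSpectrum B,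
      ∃ hq : p.asIdeal = Ideal.comap (algebraMap A B) q.asIdeal,
      ∀ x : q.asIdeal.ResidueField,
        (∃ n : ℕ, x ^ ringExpChar p.asIdeal.ResidueField ^ n ∈
            Set.range (Ideal.ResidueField.map p.asIdeal q.asIdeal (algebraMap A B) hq)) →
        x ∈ Set.range (Ideal.ResidueField.map p.asIdeal q.asIdeal (algebraMap A B) hq))
    (C : Subalgebra A B) (hC : IsUH (algebraMap A C)) :
    HTop.ResidueFieldsIso (Spec.map (CommRingCat.ofHom (algebraMap A C))) := by
  intro r
  rw [Groth.L05.EtaPt.isIso_residueFieldMap_iff]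
  refine ⟨RingHom.injective _, fun z => ?_⟩
  let p := PrimeSpectrum.comap (algebraMap A C) r
  obtain ⟨q, hq, hclose⟩ := hpi p
  have hr : PrimeSpectrum.comap C.val.toRingHom q = r := by
    apply ((Groth.L20.isHomeomorph_of_isUnivHomeo ((isUnivHomeo_iff_isUH _).mpr hC)).bijective).1
    exact PrimeSpectrum.ext hq.symm
  have hr' : r.asIdeal = q.asIdeal.comap C.val.toRingHom := by rw [← hr]; rfl
  let ρ := Ideal.ResidueField.map p.asIdeal r.asIdeal (algebraMap A C) rfl
  let i := Ideal.ResidueField.map r.asIdeal q.asIdeal C.val.toRingHom hr'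
  have hcomp : i.comp ρ = Ideal.ResidueField.map p.asIdeal q.asIdeal (algebraMap A B) hq :=
    Ideal.ResidueField.ringHom_ext (RingHom.ext fun a => by
      simp only [i, ρ, RingHom.comp_apply, Ideal.ResidueField.map_algebraMap]
      rfl)
  let := ρ.toAlgebra
  have hint : Algebra.IsAlgebraic p.asIdeal.ResidueField r.asIdeal.ResidueField := by
    refine ⟨fun y => ?_⟩
    have key : ∀ c : C, IsAlgebraic p.asIdeal.ResidueField
        (algebraMap C r.asIdeal.ResidueField c) := fun c => by
      obtain ⟨P, hP, hP'⟩ := hC.integral c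
      refine IsIntegral.isAlgebraic ⟨P.map (algebraMap A p.asIdeal.ResidueField), hP.map _, ?_⟩
      rw [Polynomial.eval₂_map]
      have e : (algebraMap p.asIdeal.ResidueField r.asIdeal.ResidueField).comp
          (algebraMap A p.asIdeal.ResidueField) =
            (algebraMap C r.asIdeal.ResidueField).comp (algebraMap A C) :=
        RingHom.ext fun a => Ideal.ResidueField.map_algebraMap _ _ (algebraMap A C) rfl a
      rw [e, ← Polynomial.hom_eval₂, hP', map_zero]
    obtain ⟨c, d, -, rfl⟩ := IsFractionRing.div_surjective (A := C ⧸ r.asIdeal) y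
    obtain ⟨c, rfl⟩ := Ideal.Quotient.mk_surjective c
    obtain ⟨d, rfl⟩ := Ideal.Quotient.mk_surjective d
    rw [← Ideal.Quotient.algebraMap_eq, ← IsScalarTower.algebraMap_apply,
      ← IsScalarTower.algebraMap_apply]
    rw [div_eq_mul_inv]
    exact (key c).mul ((key d).inv)
  have hpure : IsPurelyInseparable p.asIdeal.ResidueField r.asIdeal.ResidueField := by
    rw [isPurelyInseparable_iff_subsingleton_emb]
    refine ⟨fun σ τ => AlgHom.coe_ringHom_injective (Ideal.ResidueField.ringHom_ext
      (hC.hom_ext _ _ _ ?_))⟩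
    refine RingHom.ext fun a => ?_
    show σ (algebraMap C r.asIdeal.ResidueField (algebraMap A C a)) =
      τ (algebraMap C r.asIdeal.ResidueField (algebraMap A C a))
    have e : algebraMap C r.asIdeal.ResidueField (algebraMap A C a) =
        algebraMap p.asIdeal.ResidueField r.asIdeal.ResidueField
          (algebraMap A p.asIdeal.ResidueField a) :=
      (Ideal.ResidueField.map_algebraMap _ _ (algebraMap A C) rfl a).symm
    rw [e, AlgHom.commutes, AlgHom.commutes]
  obtain ⟨n, y, hy⟩ :=
    (isPurelyInseparable_iff_pow_mem p.asIdeal.ResidueField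
      (ringExpChar p.asIdeal.ResidueField)).mp hpure z
  obtain ⟨w, hw⟩ := hclose (i z) ⟨n, y, by
    rw [← hcomp, RingHom.comp_apply, ← map_pow]
    exact congrArg i hy⟩
  refine ⟨w, i.injective ?_⟩
  rw [← hw, ← hcomp]
  rfl

end Groth.L28.AWN
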