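import Groth.Agent.L28.AWN.Elem
import Groth.Agent.L28.AWN.Weak
import Mathlib.RingTheory.Ideal.MinimalPrime.Basic
import Mathlib.RingTheory.IntegralClosure.IsIntegralClosure.Basic

/-!
Reduced universal homeomorphisms over seminormal and absolutely weakly normal rings are isomorphisms.
-/

set_option autoImplicit false
universe u

open CategoryTheory AlgebraicGeometry

namespace Groth.L28.AWN

variable {A B C : Type u} [CommRing A] [CommRing B] [CommRing C]

/-- The step allowing one to descend a `q`-th root. -/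
def RootStep (B : Type u) [CommRing B] (q : ℕ) : Prop :=
  ∀ x y : B, (q : B) ^ q * x = y ^ q → ∃ a, x = a ^ q ∧ y = (q : B) * a

/-- Residual condition at a prime `Q`: some admissible power of `c` lies in the residue field downstairs. -/
def PowResidual (f : B →+* C) (Q : Ideal C) (c : C) : Prop :=
  ∃ (q n : ℕ) (b s : B), (q = 1 ∨ (q.Prime ∧ (q : C) ∈ Q ∧ RootStep B q)) ∧
    f s ∉ Q ∧ f s * c ^ q ^ n - f b ∈ Q

theorem surjective_of_finite [Algebra B C] [Module.Finite B C] (hB : HTop.IsSeminormalRing B)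
    [IsReduced C] (hinj : Function.Injective (algebraMap B C))
    (huniq : ∀ Q Q' : Ideal C, Q.IsPrime → Q'.IsPrime →
      Q.comap (algebraMap B C) = Q'.comap (algebraMap B C) → Q = Q')
    (H : ∀ Q : Ideal C, Q.IsPrime → ∀ c, PowResidual (algebraMap B C) Q c) :
    Function.Surjective (algebraMap B C) := by
  set f := algebraMap B C with hf
  let I : Ideal B :=
    { carrier := {b | ∀ c : C, f b * c ∈ f.range}
      add_mem' := fun {a b} ha hb c => by rw [map_add, add_mul]; exact add_mem (ha c) (hb c)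
      zero_mem' := fun c => by rw [map_zero, zero_mul]; exact zero_mem _
      smul_mem' := fun r b hb c => by
        rw [smul_eq_mul, map_mul, mul_assoc]; exact mul_mem ⟨r, rfl⟩ (hb c) }
  -- the conductor as an ideal of `C`
  let J : Ideal C :=
    { carrier := {x | ∀ c : C, x * c ∈ f.range}
      add_mem' := fun {a b} ha hb c => by rw [add_mul]; exact add_mem (ha c) (hb c)
      zero_mem' := fun c => by rw [zero_mul]; exact zero_mem _
      smul_mem' := fun r b hb c => by
        rw [smul_eq_mul, mul_comm r b, mul_assoc]; exact hb _ }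
  have hIJ : ∀ b, b ∈ I ↔ f b ∈ J := fun b => Iff.rfl
  have hJr : ∀ x ∈ J, x ∈ f.range := fun x hx => by simpa using hx 1
  have hJrad : ∀ x, x ^ 2 ∈ J → x ∈ J := by
    intro x hx c
    have h2 : (x * c) ^ 2 ∈ J := by rw [mul_pow]; exact J.mul_mem_right _ hx
    have h3 : (x * c) ^ 3 ∈ J := by rw [pow_succ]; exact J.mul_mem_right _ h2
    obtain ⟨b2, e2⟩ := hJr _ h2
    obtain ⟨b3, e3⟩ := hJr _ h3
    obtain ⟨a, ⟨ha2, ha3⟩, -⟩ := hB b2 b3 (hinj (by rw [map_pow, map_pow, e2, e3]; ring))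
    exact ⟨a, eq_of_sq_cube (by rw [← map_pow, ← ha2, e2]) (by rw [← map_pow, ← ha3, e3])⟩
  have hJrad' : J.IsRadical := by
    intro x hx
    obtain ⟨n, hn⟩ := hx
    induction n using Nat.strong_induction_on with
    | h n ih =>
      rcases Nat.lt_or_ge n 2 with h | h
      · interval_cases n
        · exact (J.eq_top_iff_one.mpr (by simpa using hn)) ▸ Submodule.mem_top
        · simpa using hn
      · refine ih ((n + 1) / 2) (by omega) (hJrad _ ?_)
        rw [← pow_mul]
        exact J.pow_mem_of_pow_mem hn (by omega)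
  by_contra hsurj
  have hI : I ≠ ⊤ := fun h => hsurj fun c => by
    simpa using ((h ▸ Submodule.mem_top : (1 : B) ∈ I) c)
  obtain ⟨m, hm, hIm⟩ := Ideal.exists_le_maximal I hI
  obtain ⟨P, hP, -⟩ := Ideal.exists_minimalPrimes_le hIm
  have := hP.1.1
  obtain ⟨Q, hQ, hQP⟩ := exists_comap_of_integral (ψ := f)
    (fun x => Algebra.IsIntegral.isIntegral x) (fun a ha => by
      rw [hinj (ha.trans (map_zero f).symm)]; exact IsNilpotent.zero) P
  -- elements of `Q` are killed into `J` by the complement of `P`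
  have hloc : ∀ x ∈ Q, ∃ s, s ∉ P ∧ f s * x ∈ J := by
    intro x hx
    let S : Submonoid C := Submonoid.map f P.primeCompl ⊔ Submonoid.powers x
    by_cases hS : Disjoint (J : Set C) (S : Set C)
    · obtain ⟨Q', hQ', hJQ', hdisj⟩ := Ideal.exists_le_prime_disjoint J S hS
      have hle : Q'.comap f ≤ P := fun b hb => by
        by_contra hbP
        exact Set.disjoint_left.mp hdisj hb
          ((le_sup_left : Submonoid.map f P.primeCompl ≤ S) ⟨b, hbP, rfl⟩)
      have heq : Q'.comap f = P := le_antisymm hle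
        (hP.2 ⟨Ideal.comap_isPrime f Q', fun b hb => hJQ' ((hIJ b).mp hb)⟩ hle)
      obtain rfl := huniq Q' Q hQ' hQ (heq.trans hQP.symm)
      exact absurd ((le_sup_right : Submonoid.powers x ≤ S) (Submonoid.mem_powers x))
        (Set.disjoint_left.mp hdisj hx)
    · obtain ⟨z, hzJ, hzS⟩ := Set.not_disjoint_iff.mp hS
      obtain ⟨_, ⟨s, hs, rfl⟩, _, ⟨n, rfl⟩, rfl⟩ := Submonoid.mem_sup.mp hzS
      refine ⟨s, hs, hJrad' ⟨n + 1, ?_⟩⟩
      rw [mul_pow, pow_succ (f s), pow_succ x n,
        show f s ^ n * f s * (x ^ n * x) = f s ^ n * x * (f s * x ^ n) by ring]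
      exact J.mul_mem_left _ hzJ
  let M : Set C := {c | ∃ s, s ∉ P ∧ f s * c ∈ f.range}
  have hstep : ∀ q : ℕ, q.Prime → (q : C) ∈ Q → RootStep B q → ∀ c, c ^ q ∈ M → c ∈ M := by
    intro q hq hqQ hroot c ⟨s, hs, hsc⟩
    obtain ⟨v, hv, hvq⟩ := hloc _ hqQ
    have hd1 : (f (v * s) * c) ^ q ∈ f.range := by
      obtain ⟨k, hk⟩ : ∃ k, q = k + 1 := ⟨q - 1, (Nat.succ_pred_eq_of_pos hq.pos).symm⟩
      rw [show (f (v * s) * c) ^ q = f (v ^ q * s ^ k) * (f s * c ^ q) by
        rw [hk, map_mul, map_mul, map_pow, map_pow]; ring]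
      exact mul_mem ⟨_, rfl⟩ hsc
    have hd2 : (q : C) * (f (v * s) * c) ∈ f.range := by
      rw [show (q : C) * (f (v * s) * c) = f v * (q : C) * (f s * c) by rw [map_mul]; ring]
      exact hvq _
    obtain ⟨x, hx⟩ := hd1
    obtain ⟨y, hy⟩ := hd2
    obtain ⟨a, ha1, ha2⟩ := hroot x y (hinj (by
      rw [map_mul, map_pow, map_pow, map_natCast, hx, hy]; ring))
    refine ⟨v * s, P.primeCompl.mul_mem hv hs, a, eq_of_pow_mul hq ?_ ?_⟩
    · rw [← map_pow, ← ha1, hx]
    · rw [← map_natCast f, ← map_mul, ← ha2, hy, map_natCast]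
  have hM : ∀ c, c ∈ M := by
    intro c
    obtain ⟨q, n, b, s, hq, hs, hsb⟩ := H Q hQ c
    obtain ⟨w, hw, hwJ⟩ := hloc _ hsb
    have hn : c ^ q ^ n ∈ M := by
      refine ⟨w * s, P.primeCompl.mul_mem hw (fun h => hs ((hQP ▸ h : s ∈ Q.comap f))), ?_⟩
      rw [show f (w * s) * c ^ q ^ n = f w * (f s * c ^ q ^ n - f b) + f (w * b) by
        rw [map_mul, map_mul]; ring]
      exact add_mem (hJr _ hwJ) ⟨_, rfl⟩
    rcases hq with rfl | ⟨hq, hqQ, hroot⟩
    · simpa using hn
    · clear hsb hwJ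
      induction n generalizing c with
      | zero => simpa using hn
      | succ n ih =>
        rw [pow_succ', pow_mul] at hn
        exact hstep q hq hqQ hroot c (ih (c ^ q) hn)
  obtain ⟨G, hG⟩ := (inferInstance : Module.Finite B C).fg_top
  choose σ hσ hσ' using fun c => hM c
  have hsP : ∏ g ∈ G, σ g ∉ P := fun h => by
    obtain ⟨g, -, hg'⟩ := (hP.1.1.prod_mem_iff).mp h
    exact hσ g hg'
  refine hsP (hP.1.2 fun c => ?_)
  induction (hG ▸ Submodule.mem_top : c ∈ Submodule.span B (G : Set C)) using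
    Submodule.span_induction with
  | mem g hg =>
    classical
    rw [← Finset.prod_erase_mul G σ hg, map_mul, mul_assoc]
    exact mul_mem ⟨_, rfl⟩ (hσ' g)
  | zero => rw [mul_zero]; exact zero_mem _
  | add x y _ _ hx hy => rw [mul_add]; exact add_mem hx hy
  | smul r x _ hx =>
    rw [Algebra.smul_def, ← hf, mul_left_comm]
    exact mul_mem ⟨r, rfl⟩ hx

theorem surjective_of_integral (f : B →+* C) (hB : HTop.IsSeminormalRing B) [IsReduced C]
    (hinj : Function.Injective f) (hint : f.IsIntegral)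
    (huniq : ∀ Q Q' : Ideal C, Q.IsPrime → Q'.IsPrime → Q.comap f = Q'.comap f → Q = Q')
    (H : ∀ Q : Ideal C, Q.IsPrime → ∀ c, PowResidual f Q c) : Function.Surjective f := by
  intro c
  algebraize [f]
  let S : Subalgebra B C := Algebra.adjoin B {c}
  have hfin : Module.Finite B S :=
    Module.Finite.of_fg (IsIntegral.fg_adjoin_singleton (R := B) (hint c))
  have : IsReduced S := isReduced_of_injective S.val Subtype.val_injective
  have hi : (S.val.toRingHom : S →+* C).IsIntegral := fun x =>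
    RingHom.IsIntegral.tower_top (algebraMap B S) S.val.toRingHom
      (by rw [show S.val.toRingHom.comp (algebraMap B S) = f from rfl]; exact hint) x
  have hn : ∀ e : S, S.val.toRingHom e = 0 → IsNilpotent e := fun e he => by
    rw [show e = 0 from Subtype.ext he]; exact IsNilpotent.zero
  have hs := surjective_of_finite (C := S) hB (fun a b h => hinj (congrArg Subtype.val h))
    (fun q q' hq hq' h => by
      obtain ⟨Q, hQ, rfl⟩ := exists_comap_of_integral hi hn q
      obtain ⟨Q', hQ', rfl⟩ := exists_comap_of_integral hi hn q'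
      rw [huniq Q Q' hQ hQ' (by rw [Ideal.comap_comap, Ideal.comap_comap] at h; exact h)])
    (fun q hq x => by
      obtain ⟨Q, hQ, rfl⟩ := exists_comap_of_integral hi hn q
      obtain ⟨p, n, b, s, hp, hs, hsb⟩ := H Q hQ x.1
      refine ⟨p, n, b, s, hp.imp_right fun ⟨h1, h2, h3⟩ => ⟨h1, ?m, h3⟩, hs, ?r⟩
      case m => rw [Ideal.mem_comap, map_natCast]; exact h2
      case r => rw [Ideal.mem_comap]; exact hsb)
  obtain ⟨b, hb⟩ := hs ⟨c, Algebra.subset_adjoin rfl⟩
  exact ⟨b, congrArg Subtype.val hb⟩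

theorem IsUH.injective {f : B →+* C} (h : IsUH f) [IsReduced B] : Function.Injective f :=
  (injective_iff_map_eq_zero f).mpr fun a ha => IsReduced.eq_zero a (h.nil a ha)

theorem IsUH.prime_unique {f : B →+* C} (h : IsUH f) (Q Q' : Ideal C) (hQ : Q.IsPrime)
    (hQ' : Q'.IsPrime) (e : Q.comap f = Q'.comap f) : Q = Q' :=
  congrArg PrimeSpectrum.asIdeal
    (h.comap_injective (a₁ := ⟨Q, hQ⟩) (a₂ := ⟨Q', hQ'⟩) (PrimeSpectrum.ext e))

theorem exists_frac (P : Ideal B) [P.IsPrime] (w : P.ResidueField) :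
    ∃ b s : B, s ∉ P ∧ w * algebraMap B P.ResidueField s = algebraMap B P.ResidueField b := by
  obtain ⟨b, s, hs, rfl⟩ := IsFractionRing.div_surjective (A := B ⧸ P) w
  obtain ⟨b, rfl⟩ := Ideal.Quotient.mk_surjective b
  obtain ⟨s, rfl⟩ := Ideal.Quotient.mk_surjective s
  have hs' : s ∉ P := fun h =>
    nonZeroDivisors.ne_zero hs (Ideal.Quotient.eq_zero_iff_mem.mpr h)
  refine ⟨b, s, hs', ?_⟩
  rw [← Ideal.Quotient.algebraMap_eq, ← IsScalarTower.algebraMap_apply,
    ← IsScalarTower.algebraMap_apply, div_mul_cancel₀]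
  exact fun h => hs' (Ideal.algebraMap_residueField_eq_zero.mp h)

theorem IsUH.exists_pow_residual {f : B →+* C} (h : IsUH f) (Q : PrimeSpectrum C) (c : C) :
    ∃ (q n : ℕ) (b s : B), (q = 1 ∨ (q.Prime ∧ (q : C) ∈ Q.asIdeal)) ∧
      f s ∉ Q.asIdeal ∧ f s * c ^ q ^ n - f b ∈ Q.asIdeal := by
  let P := PrimeSpectrum.comap f Q
  let ρ := Ideal.ResidueField.map P.asIdeal Q.asIdeal f rfl
  have hρ : ∀ a, ρ (algebraMap B P.asIdeal.ResidueField a) =
      algebraMap C Q.asIdeal.ResidueField (f a) :=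
    fun a => Ideal.ResidueField.map_algebraMap _ _ f rfl a
  let := ρ.toAlgebra
  have key : ∀ c : C, IsAlgebraic P.asIdeal.ResidueField
      (algebraMap C Q.asIdeal.ResidueField c) := fun c => by
    obtain ⟨F, hF, hF'⟩ := h.integral c
    refine IsIntegral.isAlgebraic ⟨F.map (algebraMap B P.asIdeal.ResidueField), hF.map _, ?_⟩
    rw [Polynomial.eval₂_map]
    have e : (algebraMap P.asIdeal.ResidueField Q.asIdeal.ResidueField).comp
        (algebraMap B P.asIdeal.ResidueField) = (algebraMap C Q.asIdeal.ResidueField).comp f :=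
      RingHom.ext hρ
    rw [e, ← Polynomial.hom_eval₂, hF', map_zero]
  have : Algebra.IsAlgebraic P.asIdeal.ResidueField Q.asIdeal.ResidueField := by
    refine ⟨fun y => ?_⟩
    obtain ⟨b, s, hs, hy⟩ := exists_frac Q.asIdeal y
    have hne : algebraMap C Q.asIdeal.ResidueField s ≠ 0 := fun h =>
      hs (Ideal.algebraMap_residueField_eq_zero.mp h)
    rw [show y = algebraMap C Q.asIdeal.ResidueField b * (algebraMap C Q.asIdeal.ResidueField s)⁻¹
      by rw [← hy, mul_inv_cancel_right₀ hne]]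
    exact (key b).mul (key s).inv
  have : IsPurelyInseparable P.asIdeal.ResidueField Q.asIdeal.ResidueField := by
    rw [isPurelyInseparable_iff_subsingleton_emb]
    refine ⟨fun σ τ => AlgHom.coe_ringHom_injective (Ideal.ResidueField.ringHom_ext
      (h.hom_ext _ _ _ ?_))⟩
    refine RingHom.ext fun a => ?_
    show σ (algebraMap C Q.asIdeal.ResidueField (f a)) = τ (algebraMap C Q.asIdeal.ResidueField (f a))
    rw [← hρ]
    exact (σ.commutes _).trans (τ.commutes _).symm
  obtain ⟨q, hq⟩ : ∃ q, ExpChar P.asIdeal.ResidueField q := ⟨_, ringExpChar.expChar _⟩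
  obtain ⟨n, w, hw⟩ := (isPurelyInseparable_iff_pow_mem P.asIdeal.ResidueField q).mp this
    (algebraMap C Q.asIdeal.ResidueField c)
  obtain ⟨b, s, hs, hw'⟩ := exists_frac P.asIdeal w
  refine ⟨q, n, b, s, ?_, hs, ?_⟩
  · cases hq with
    | zero => exact Or.inl rfl
    | prime hp =>
      refine Or.inr ⟨hp, Ideal.algebraMap_residueField_eq_zero.mp ?_⟩
      rw [map_natCast, ← map_natCast ρ, CharP.cast_eq_zero, map_zero]
  · rw [← Ideal.algebraMap_residueField_eq_zero, map_sub, map_mul, map_pow, ← hρ, ← hρ, ← hw,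
      ← hw', map_mul, sub_eq_zero, mul_comm]
    rfl

theorem IsUH.bijective_of_isAWNRing {f : B →+* C} (h : IsUH f) (hB : HTop.IsAWNRing B)
    [IsReduced C] : Function.Bijective f := by
  have := isReduced_of_isSeminormalRing hB.1
  refine ⟨h.injective, surjective_of_integral f hB.1 h.injective h.integral h.prime_unique
    fun Q hQ c => ?_⟩
  obtain ⟨q, n, b, s, hq, hs, hsb⟩ := h.exists_pow_residual ⟨Q, hQ⟩ c
  exact ⟨q, n, b, s, hq.imp_right fun hp =>
    ⟨hp.1, hp.2, fun x y e => ((hB.2 q hp.1) x y e).exists⟩, hs, hsb⟩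

theorem IsUH.bijective_of_isSeminormalRing {f : B →+* C} (h : IsUH f)
    (hres : HTop.ResidueFieldsIso (Spec.map (CommRingCat.ofHom f)))
    (hB : HTop.IsSeminormalRing B) [IsReduced C] : Function.Bijective f := by
  have := isReduced_of_isSeminormalRing hB
  refine ⟨h.injective, surjective_of_integral f hB h.injective h.integral h.prime_unique
    fun Q hQ c => ?_⟩
  obtain ⟨w, hw⟩ := ((Groth.L05.EtaPt.isIso_residueFieldMap_iff f ⟨Q, hQ⟩).mp (hres _)).2
    (algebraMap C _ c)
  obtain ⟨b, s, hs, hw'⟩ := exists_frac _ w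
  refine ⟨1, 0, b, s, Or.inl rfl, hs, ?_⟩
  rw [← Ideal.algebraMap_residueField_eq_zero, map_sub, map_mul, map_pow, pow_zero, pow_one, ← hw,
    sub_eq_zero]
  have e := congrArg (Ideal.ResidueField.map (PrimeSpectrum.comap f ⟨Q, hQ⟩).asIdeal
    Q f rfl) hw'
  rw [map_mul] at e
  refine (mul_comm _ _).trans (Eq.trans ?_ (e.trans (Ideal.ResidueField.map_algebraMap _ _ f rfl b)))
  exact congrArg (_ * ·) (Ideal.ResidueField.map_algebraMap _ _ f rfl s).symm

theorem IsUH.comp {f : A →+* B} {g : B →+* C} (hf : IsUH f) (hg : IsUH g) : IsUH (g.comp f) := by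
  refine ⟨RingHom.IsIntegral.trans f g hf.integral hg.integral, fun K _ a b e => hg.hom_ext K a b
    (hf.hom_ext K _ _ (by rw [RingHom.comp_assoc, RingHom.comp_assoc, e])), fun x hx => ?_⟩
  obtain ⟨n, hn⟩ := hg.nil _ hx
  obtain ⟨m, hm⟩ := hf.nil (x ^ n) (by rw [map_pow, hn])
  exact ⟨n * m, by rw [pow_mul, hm]⟩

theorem isNilpotent_of_forall_field {b : B}
    (h : ∀ (K : Type u) [Field K] [IsAlgClosed K] (f : B →+* K), f b = 0) : IsNilpotent b :=
  isNilpotent_of_algebraMap_pts b (funext fun t =>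
    h (AlgebraicClosure t.asIdeal.ResidueField) (algebraMap B _))

theorem IsUH.of_comp {f : A →+* B} {g : B →+* C} (hf : IsUH f) (h : IsUH (g.comp f)) : IsUH g := by
  refine ⟨RingHom.IsIntegral.tower_top f g h.integral,
    fun K _ a b e => h.hom_ext K a b (by rw [← RingHom.comp_assoc, e, RingHom.comp_assoc]),
    fun x hx => isNilpotent_of_forall_field fun K _ _ k => ?_⟩
  obtain ⟨l, hl⟩ := h.exists_lift (k.comp f)
  rw [show k = l.comp g from hf.hom_ext K _ _ (by rw [RingHom.comp_assoc]; exact hl.symm),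
    RingHom.comp_apply, hx, map_zero]

theorem isUH_of_equiv (e : A ≃+* B) : IsUH (e : A →+* B) :=
  ⟨RingHom.IsIntegral.of_finite (RingHom.Finite.of_surjective _ e.surjective),
    fun K _ f g h => RingHom.ext fun b => by
      obtain ⟨a, rfl⟩ := e.surjective b
      exact RingHom.congr_fun h a,
    fun a ha => by rw [e.injective (ha.trans (map_zero e).symm)]; exact IsNilpotent.zero⟩

/-- An absolutely weakly normal target makes a universal homeomorphism an absolute weak normalization. -/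
theorem bijective_to_awn_of_isAWNRing {φ : A →+* B} (h : IsUH φ) (hB : HTop.IsAWNRing B) :
    ∃ e : B ≃+* awn A, (e : B →+* awn A).comp φ = algebraMap A (awn A) := by
  obtain ⟨χ, hχ, -⟩ := existsUnique_to_awn h
  have hχ' : IsUH χ := h.of_comp (by rw [hχ]; exact isUH_awn)
  have : IsReduced (awn A) := isReduced_of_injective (awn A).val Subtype.val_injective
  exact ⟨RingEquiv.ofBijective χ (hχ'.bijective_of_isAWNRing hB), hχ⟩

theorem isRingAWN_of_isAWNRing {φ : A →+* B} (h : IsUH φ) (hB : HTop.IsAWNRing B) :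
    HTop.IsRingAWN φ := by
  obtain ⟨e, he⟩ := bijective_to_awn_of_isAWNRing h hB
  refine ⟨(isUnivHomeo_iff_isUH _).mpr h, fun D _ ψ hψ => ?_⟩
  obtain ⟨χ, hχ, hu⟩ := existsUnique_to_awn ((isUnivHomeo_iff_isUH _).mp hψ)
  have he' : (e.symm : awn A →+* B).comp (algebraMap A (awn A)) = φ := by
    rw [← he, ← RingHom.comp_assoc, RingEquiv.symm_comp, RingHom.id_comp]
  refine ⟨(e.symm : awn A →+* B).comp χ, (RingHom.comp_assoc _ _ _).trans (by rw [hχ, he']), fun χ' hχ' => ?_⟩
  rw [← hu ((e : B →+* awn A).comp χ') ((RingHom.comp_assoc _ _ _).trans (by rw [show χ'.comp ψ = φ from hχ', he])), ← RingHom.comp_assoc,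
    RingEquiv.symm_comp, RingHom.id_comp]

theorem isAWNRing_of_isRingAWN {φ : A →+* B} (h : HTop.IsRingAWN φ) :
    HTop.IsAWNRing B := by
  obtain ⟨a, ha, -⟩ := h.2 (awn A) (algebraMap A (awn A)) ((isUnivHomeo_iff_isUH _).mpr isUH_awn)
  obtain ⟨b, hb, -⟩ := existsUnique_to_awn ((isUnivHomeo_iff_isUH _).mp h.1)
  have e1 : a.comp b = RingHom.id B := (h.2 B φ h.1).unique
    (by rw [RingHom.comp_assoc, hb, ha]) (RingHom.id_comp _)
  have e2 : b.comp a = RingHom.id (awn A) := (existsUnique_to_awn isUH_awn).unique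
    (by rw [RingHom.comp_assoc, ha, hb]) (RingHom.id_comp _)
  exact isAWNRing_congr (RingEquiv.ofRingHom a b e1 e2) isAWNRing_awn

end Groth.L28.AWN
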