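import Groth.Agent.L28.AWN.Funct
import Mathlib.AlgebraicGeometry.Sites.SmallAffineZariski

/-!
The absolute weak normalization of a scheme.
-/

set_option autoImplicit false
universe u

open CategoryTheory CategoryTheory.Limits AlgebraicGeometry Opposite

namespace Groth.L28.AWN

theorem existsUnique_spec {A : CommRingCat.{u}} {X Y : Scheme.{u}} (π : Y ⟶ X)
    (hπ : FlatMor.IsUnivHomeo π) (j : Spec A ⟶ X) :
    ∃! k : Spec (CommRingCat.of (awn A)) ⟶ Y,
      k ≫ π = Spec.map (CommRingCat.ofHom (algebraMap A (awn A))) ≫ j := by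
  let P := pullback j π
  have hP : FlatMor.IsUnivHomeo (pullback.fst j π) := by
    have : MorphismProperty.IsStableUnderBaseChange (FlatMor.IsUnivHomeo.{u}) :=
      MorphismProperty.universally_isStableUnderBaseChange _
    exact MorphismProperty.of_isPullback (IsPullback.of_hasPullback j π).flip hπ
  have := Groth.L20.isAffineHom_of_isUnivHomeo hP
  have : IsAffine P := isAffine_of_isAffineHom (pullback.fst j π)
  obtain ⟨C, ⟨eP⟩⟩ : ∃ C : CommRingCat.{u}, Nonempty (Spec C ≅ P) := ⟨_, ⟨P.isoSpec.symm⟩⟩
  obtain ⟨ψ, hψ⟩ := Spec.map_surjective (eP.hom ≫ pullback.fst j π)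
  have hU : IsUH ψ.hom := by
    rw [← isUnivHomeo_iff_isUH]
    show FlatMor.IsUnivHomeo (Spec.map ψ)
    rw [hψ]
    have : MorphismProperty.RespectsIso (FlatMor.IsUnivHomeo.{u}) :=
      MorphismProperty.universally_respectsIso _
    exact (MorphismProperty.cancel_left_of_respectsIso FlatMor.IsUnivHomeo eP.hom _).mpr hP
  obtain ⟨χ, hχ, huniq⟩ := existsUnique_to_awn hU
  have h1 : Spec.map (CommRingCat.ofHom χ) ≫ eP.hom ≫ pullback.fst j π =
      Spec.map (CommRingCat.ofHom (algebraMap A (awn A))) := by
    rw [← hψ, ← Spec.map_comp]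
    exact congrArg Spec.map (CommRingCat.hom_ext hχ)
  refine ⟨Spec.map (CommRingCat.ofHom χ) ≫ eP.hom ≫ pullback.snd j π, ?_, fun k hk => ?_⟩
  · show (_ ≫ _ ≫ _) ≫ _ = _
    rw [Category.assoc, Category.assoc, ← pullback.condition]
    rw [← h1, Category.assoc, Category.assoc]
  · let l : Spec (CommRingCat.of (awn A)) ⟶ Spec C :=
      pullback.lift (f := j) (g := π) (Spec.map (CommRingCat.ofHom (algebraMap A (awn A)))) k
        hk.symm ≫ eP.inv
    obtain ⟨χ', hχ'⟩ := Spec.map_surjective l
    have hlift : l ≫ eP.hom =
        pullback.lift (f := j) (g := π) (Spec.map (CommRingCat.ofHom (algebraMap A (awn A)))) k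
          hk.symm := by
      simp only [l, Category.assoc, Iso.inv_hom_id]
      exact Category.comp_id _
    have hl : χ'.hom = χ := huniq χ'.hom (by
      have : ψ ≫ χ' = CommRingCat.ofHom (algebraMap A (awn A)) := by
        apply Spec.map_injective
        rw [Spec.map_comp, hχ', hψ, ← Category.assoc, hlift]
        exact pullback.lift_fst _ _ _
      exact congrArg CommRingCat.Hom.hom this)
    rw [← hl, CommRingCat.ofHom_hom, hχ', ← Category.assoc, hlift]
    exact (pullback.lift_snd _ _ _).symm

variable (X : Scheme.{u})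

open Scheme.AffineZariskiSite

/-- The absolute weak normalizations of the rings of affine opens. -/
noncomputable def diagram : X.AffineZariskiSiteᵒᵖ ⥤ CommRingCat.{u} where
  obj U := CommRingCat.of (awn Γ(X, U.unop.toOpens))
  map {U V} i := CommRingCat.ofHom (map (((toOpensFunctor X).op ⋙ X.presheaf).map i).hom)
  map_id U := by
    refine CommRingCat.hom_ext ?_
    show map (((toOpensFunctor X).op ⋙ X.presheaf).map (𝟙 U)).hom = _
    rw [CategoryTheory.Functor.map_id]
    exact map_id
  map_comp {U V W} i j := by
    refine CommRingCat.hom_ext ?_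
    show map (((toOpensFunctor X).op ⋙ X.presheaf).map (i ≫ j)).hom = _
    rw [CategoryTheory.Functor.map_comp, CommRingCat.hom_comp, map_comp]
    rfl

/-- The structure map. -/
noncomputable def diagramMap : (toOpensFunctor X).op ⋙ X.presheaf ⟶ diagram X where
  app U := CommRingCat.ofHom (algebraMap Γ(X, U.unop.toOpens) (awn Γ(X, U.unop.toOpens)))
  naturality {U V} i := CommRingCat.hom_ext
    (map_algebraMap (((toOpensFunctor X).op ⋙ X.presheaf).map i).hom).symm

theorem coequifibered_diagramMap : (diagramMap X).Coequifibered := by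
  refine coequifibered_iff_forall_isLocalizationAway.mpr fun U f => ?_
  let : Algebra Γ(X, U.toOpens) Γ(X, X.basicOpen f) :=
    (X.presheaf.map (homOfLE (X.basicOpen_le f)).op).hom.toAlgebra
  have : IsLocalization.Away f Γ(X, X.basicOpen f) := U.2.isLocalization_basicOpen f
  exact isLocalization_awn (A := Γ(X, U.toOpens)) (A' := Γ(X, X.basicOpen f)) f

/-- The gluing data. -/
noncomputable def glueData := relativeGluingData (coequifibered_diagramMap X)

instance : ((glueData X).functor ⋙ Scheme.forget).IsLocallyDirected :=
  Scheme.Cover.RelativeGluingData.instIsLocallyDirectedI₀CompFunctorForgetOfIsThin ..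

/-- The absolute weak normalization of a scheme. -/
noncomputable def awNormalization : Scheme.{u} := (glueData X).glued

/-- Its structure map. -/
noncomputable def toScheme : awNormalization X ⟶ X := (glueData X).toBase

lemma ι_toScheme (U : X.AffineZariskiSite) :
    colimit.ι (glueData X).functor U ≫ toScheme X =
      Spec.map (CommRingCat.ofHom (algebraMap Γ(X, U.toOpens) (awn Γ(X, U.toOpens)))) ≫
        U.2.fromSpec := by
  refine ((glueData X).ι_toBase U).trans ?_
  simp [glueData, relativeGluingData, diagramMap]
  rfl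

theorem isUnivHomeo_natTrans (U : X.AffineZariskiSite) :
    FlatMor.IsUnivHomeo ((glueData X).natTrans.app U) := by
  have : MorphismProperty.RespectsIso (FlatMor.IsUnivHomeo.{u}) :=
    MorphismProperty.universally_respectsIso _
  have h : FlatMor.IsUnivHomeo
      (Spec.map (CommRingCat.ofHom (algebraMap Γ(X, U.toOpens) (awn Γ(X, U.toOpens))))) :=
    (isUnivHomeo_iff_isUH _).mpr isUH_awn
  exact (MorphismProperty.cancel_right_of_respectsIso FlatMor.IsUnivHomeo _
    ((restrictIsoSpec X).inv.app U)).mpr h

theorem isUnivHomeo_toScheme : FlatMor.IsUnivHomeo (toScheme X) := by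
  have key : ∀ (P : MorphismProperty Scheme.{u}) [IsZariskiLocalAtTarget P],
      (∀ U, P ((glueData X).natTrans.app U)) → P (toScheme X) := by
    intro P _ hP
    refine IsZariskiLocalAtTarget.of_openCover (directedCover X) fun U => ?_
    have e := (glueData X).isPullback_natTrans_ι_toBase U
    have : (e.flip.isoPullback).inv ≫ (glueData X).natTrans.app U =
        Limits.pullback.snd (toScheme X) ((directedCover X).f U) := e.flip.isoPullback_inv_snd
    show P (Limits.pullback.snd (toScheme X) ((directedCover X).f U))
    rw [← this]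
    exact (MorphismProperty.cancel_left_of_respectsIso P _ _).mpr (hP U)
  have h := fun U => (Groth.L20.isUnivHomeo_iff _).mp (isUnivHomeo_natTrans X U)
  rw [Groth.L20.isUnivHomeo_iff]
  exact ⟨key @UniversallyClosed fun U => (h U).1, key @UniversallyInjective fun U => (h U).2.1,
    key @Surjective fun U => (h U).2.2⟩

theorem isAWNormalization_toScheme : HTop.IsAWNormalization (toScheme X) := by
  refine ⟨isUnivHomeo_toScheme X, fun Y π hπ => ?_⟩
  have hk : ∀ U : X.AffineZariskiSite, ∃ k : (glueData X).functor.obj U ⟶ Y,
      k ≫ π = colimit.ι (glueData X).functor U ≫ toScheme X ∧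
      ∀ k' : (glueData X).functor.obj U ⟶ Y,
        k' ≫ π = colimit.ι (glueData X).functor U ≫ toScheme X → k' = k := fun U => by
    rw [ι_toScheme X U]
    obtain ⟨k, h1, h2⟩ := existsUnique_spec π hπ U.2.fromSpec
    exact ⟨k, h1, h2⟩
  choose k hk huniq using hk
  have hnat : ∀ (V U : X.AffineZariskiSite) (i : V ⟶ U), (glueData X).functor.map i ≫ k U = k V := by
    intro V U i
    refine huniq V _ ?_
    rw [Category.assoc, hk U]
    exact colimit.w_assoc (glueData X).functor i _
  let c : Cocone (glueData X).functor :=
    { pt := Y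
      ι :=
        { app := k
          naturality := fun V U i => (hnat V U i).trans (Category.comp_id _).symm } }
  refine ⟨colimit.desc (glueData X).functor c, ?_, fun h hh => ?_⟩
  · refine colimit.hom_ext fun U => ?_
    exact (colimit.ι_desc_assoc c U π).trans (hk U)
  · refine colimit.hom_ext fun U => ?_
    refine (huniq U _ ?_).trans (colimit.ι_desc c U).symm
    exact (Category.assoc _ _ _).trans (congrArg (colimit.ι (glueData X).functor U ≫ ·) hh)

end Groth.L28.AWN
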