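import Groth.Agent.L28.AWN.Key
import Groth.Agent.L28.AWN.Scheme
import Mathlib.AlgebraicGeometry.Properties
import Mathlib.AlgebraicGeometry.Morphisms.Affine

/-!
Seminormal and absolutely weakly normal schemes.
-/

set_option autoImplicit false
universe u

open CategoryTheory CategoryTheory.Limits AlgebraicGeometry TopologicalSpace

namespace Groth.L28.AWN

theorem forall_affine_of_local (P : ∀ (A : Type u) [CommRing A], Prop)
    (hiso : ∀ {A B : Type u} [CommRing A] [CommRing B], A ≃+* B → P A → P B)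
    (hloc : ∀ (A : Type u) [CommRing A] (f : A), P A → P (Localization.Away f))
    (hglue : ∀ (A : Type u) [CommRing A] (s : Finset A), Ideal.span (s : Set A) = ⊤ →
      (∀ f ∈ s, P (Localization.Away f)) → P A)
    {X : Scheme.{u}} (h : ∀ x : X, ∃ U : X.affineOpens, x ∈ (U : X.Opens) ∧ P Γ(X, U))
    (V : X.affineOpens) : P Γ(X, V) := by
  choose U hxU hU using h
  have e : ∀ (W : X.affineOpens) (f : Γ(X, W)),
      Nonempty (Localization.Away f ≃+* Γ(X, X.basicOpen f)) := fun W f => by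
    let := (X.presheaf.map (homOfLE (X.basicOpen_le f)).op).hom.toAlgebra
    have : IsLocalization.Away f Γ(X, X.basicOpen f) := W.2.isLocalization_basicOpen f
    exact ⟨(IsLocalization.algEquiv (Submonoid.powers f) _ _).toRingEquiv⟩
  refine of_affine_open_cover (P := fun W => P Γ(X, W)) U ?_ V ?_ ?_ hU
  · exact top_le_iff.mp fun x _ => Opens.mem_iSup.mpr ⟨x, hxU x⟩
  · exact fun W f hW => hiso (e W f).some (hloc _ f hW)
  · exact fun W s hs hW => hglue _ s hs fun f hf => hiso (e W f).some.symm (hW ⟨f, hf⟩)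

theorem isSeminormal_affine {X : Scheme.{u}} (h : HTop.IsSeminormal X) (V : X.affineOpens) :
    HTop.IsSeminormalRing Γ(X, V) :=
  forall_affine_of_local HTop.IsSeminormalRing (fun e => isSeminormalRing_congr e)
    (fun _ _ f h => isSeminormalRing_localization (Submonoid.powers f) h)
    (fun _ _ s hs h => isSeminormalRing_of_local s hs h) h V

theorem isAWN_affine {X : Scheme.{u}} (h : HTop.IsAWN X) (V : X.affineOpens) :
    HTop.IsAWNRing Γ(X, V) :=
  forall_affine_of_local HTop.IsAWNRing (fun e => isAWNRing_congr e)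
    (fun _ _ f h => isAWNRing_localization (Submonoid.powers f) h)
    (fun _ _ s hs h => isAWNRing_of_local s hs h) h V

theorem exists_affineOpen (X : Scheme.{u}) (x : X) : ∃ U : X.affineOpens, x ∈ (U : X.Opens) :=
  let ⟨U, hU, hx, _⟩ := X.isBasis_affineOpens.exists_subset_of_mem_open (Set.mem_univ x) isOpen_univ
  let ⟨U', hU', e⟩ := hU
  ⟨⟨U', hU'⟩, show x ∈ (U' : Set X) from e.symm ▸ hx⟩

theorem isReduced_of_isSeminormal {X : Scheme.{u}} (h : HTop.IsSeminormal X) :
    AlgebraicGeometry.IsReduced X := by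
  have : ∀ x : X, _root_.IsReduced (X.presheaf.stalk x) := fun x => by
    obtain ⟨U, hxU, hU⟩ := h x
    have := isReduced_of_isSeminormalRing hU
    let : Algebra Γ(X, U) (X.presheaf.stalk x) := (X.presheaf.germ U x hxU).hom.toAlgebra
    have : IsLocalization.AtPrime (X.presheaf.stalk x) (U.2.primeIdealOf ⟨x, hxU⟩).asIdeal :=
      U.2.isLocalization_stalk ⟨x, hxU⟩
    exact isReduced_localizationPreserves
      (U.2.primeIdealOf ⟨x, hxU⟩).asIdeal.primeCompl (X.presheaf.stalk x) inferInstance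
  exact isReduced_of_isReduced_stalk X

theorem isSeminormal_of_isAWN {X : Scheme.{u}} (h : HTop.IsAWN X) : HTop.IsSeminormal X :=
  fun x => let ⟨U, hxU, hU⟩ := h x; ⟨U, hxU, hU.1⟩

theorem isAWN_of_iso {X Y : Scheme.{u}} (f : X ⟶ Y) [IsIso f] (h : HTop.IsAWN X) :
    HTop.IsAWN Y := by
  intro y
  obtain ⟨U, hxU, hU⟩ := h ((inv f).base y)
  refine ⟨⟨f ''ᵁ U, U.2.image_of_isOpenImmersion f⟩, ⟨_, hxU, ?_⟩,
    isAWNRing_congr (f.appIso U).commRingCatIsoToRingEquiv.symm hU⟩
  show (inv f ≫ f).base y = y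
  rw [IsIso.inv_hom_id]
  rfl

theorem isUnivHomeo_comp {X Y Z : Scheme.{u}} {f : X ⟶ Y} {g : Y ⟶ Z}
    (hf : FlatMor.IsUnivHomeo f) (hg : FlatMor.IsUnivHomeo g) : FlatMor.IsUnivHomeo (f ≫ g) := by
  rw [Groth.L20.isUnivHomeo_iff] at hf hg ⊢
  obtain ⟨_, _, _⟩ := hf
  obtain ⟨_, _, _⟩ := hg
  exact ⟨inferInstance, MorphismProperty.comp_mem @UniversallyInjective f g ‹_› ‹_›, inferInstance⟩

theorem isUnivHomeo_id (X : Scheme.{u}) : FlatMor.IsUnivHomeo (𝟙 X) := by
  rw [Groth.L20.isUnivHomeo_iff]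
  exact ⟨inferInstance, inferInstance, inferInstance⟩

theorem isUnivHomeo_morphismRestrict {X Y : Scheme.{u}} {f : Y ⟶ X} (hf : FlatMor.IsUnivHomeo f)
    (U : X.Opens) : FlatMor.IsUnivHomeo (f ∣_ U) := by
  have : MorphismProperty.IsStableUnderBaseChange (FlatMor.IsUnivHomeo.{u}) :=
    MorphismProperty.universally_isStableUnderBaseChange _
  exact MorphismProperty.of_isPullback (isPullback_morphismRestrict f U).flip hf

/-- A universal homeomorphism from a reduced scheme is an isomorphism as soon as this is so on rings. -/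
theorem isIso_of_rings {X Y : Scheme.{u}} {π : Y ⟶ X} (hπ : FlatMor.IsUnivHomeo π)
    [AlgebraicGeometry.IsReduced Y]
    (h : ∀ (U : X.affineOpens) (C : Type u) [CommRing C] [_root_.IsReduced C] (ψ : Γ(X, U) →+* C)
      (e : Spec (CommRingCat.of C) ≅ (π ⁻¹ᵁ (U : X.Opens)).toScheme),
      e.hom ≫ π ∣_ (U : X.Opens) ≫ U.2.isoSpec.hom = Spec.map (CommRingCat.ofHom ψ) →
      IsUH ψ → Function.Bijective ψ) : IsIso π := by
  have := Groth.L20.isAffineHom_of_isUnivHomeo hπ
  refine (IsZariskiLocalAtTarget.iff_of_iSup_eq_top (P := MorphismProperty.isomorphisms Scheme.{u})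
    (fun U : X.affineOpens => (U : X.Opens)) (iSup_affineOpens_eq_top X)).mpr fun U => ?_
  have hV : IsAffineOpen (π ⁻¹ᵁ (U : X.Opens)) := U.2.preimage π
  obtain ⟨ψ, hψ⟩ := Spec.map_surjective (hV.isoSpec.inv ≫ π ∣_ (U : X.Opens) ≫ U.2.isoSpec.hom)
  have : MorphismProperty.RespectsIso (FlatMor.IsUnivHomeo.{u}) :=
    MorphismProperty.universally_respectsIso _
  have hψ' : IsUH ψ.hom := by
    refine (isUnivHomeo_iff_isUH _).mp ?_
    show FlatMor.IsUnivHomeo (Spec.map ψ)
    rw [hψ]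
    exact (MorphismProperty.cancel_left_of_respectsIso FlatMor.IsUnivHomeo _ _).mpr
      ((MorphismProperty.cancel_right_of_respectsIso FlatMor.IsUnivHomeo _ _).mpr
        (isUnivHomeo_morphismRestrict hπ U))
  have : IsIso ψ := (ConcreteCategory.isIso_iff_bijective ψ).mpr
    (h U Γ(Y, π ⁻¹ᵁ (U : X.Opens)) ψ.hom hV.isoSpec.symm hψ.symm hψ')
  have : IsIso (hV.isoSpec.inv ≫ π ∣_ (U : X.Opens) ≫ U.2.isoSpec.hom) := hψ ▸ inferInstance
  have := IsIso.of_isIso_comp_left hV.isoSpec.inv (π ∣_ (U : X.Opens) ≫ U.2.isoSpec.hom)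
  exact IsIso.of_isIso_comp_right (π ∣_ (U : X.Opens)) U.2.isoSpec.hom

theorem residueFieldsIso_comp {X Y Z : Scheme.{u}} (f : X ⟶ Y) (g : Y ⟶ Z)
    (hf : HTop.ResidueFieldsIso f) (hg : HTop.ResidueFieldsIso g) :
    HTop.ResidueFieldsIso (f ≫ g) := fun x => by
  have := hf x
  have := hg (f x)
  rw [Scheme.residueFieldMap_comp]
  exact IsIso.comp_isIso' ‹_› ‹_›

theorem isIso_of_isSeminormal {X Y : Scheme.{u}} {π : Y ⟶ X} (hπ : FlatMor.IsUnivHomeo π)
    (hres : HTop.ResidueFieldsIso π) [AlgebraicGeometry.IsReduced Y] (hX : HTop.IsSeminormal X) :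
    IsIso π := by
  refine isIso_of_rings hπ fun U C _ _ ψ e he hψ => hψ.bijective_of_isSeminormalRing ?_
    (isSeminormal_affine hX U)
  rw [← he]
  have hiso : ∀ {A B : Scheme.{u}} (f : A ⟶ B) [IsIso f], HTop.ResidueFieldsIso f :=
    fun f _ x => inferInstance
  have hiso' : ∀ {A B : Scheme.{u}} (f : A ⟶ B) [IsOpenImmersion f], HTop.ResidueFieldsIso f :=
    fun f _ x => inferInstance
  refine residueFieldsIso_comp _ _ (hiso _) (residueFieldsIso_comp _ _ (fun y => ?_) (hiso _))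
  have h2 : IsIso (((π ∣_ (U : X.Opens)) ≫ (U : X.Opens).ι).residueFieldMap y) := by
    rw [Scheme.Hom.residueFieldMap_congr (morphismRestrict_ι π U)]
    have : IsIso (((π ⁻¹ᵁ (U : X.Opens)).ι ≫ π).residueFieldMap y) := by
      rw [Scheme.residueFieldMap_comp]
      exact IsIso.comp_isIso' (hres _) (hiso' _ _)
    exact IsIso.comp_isIso' inferInstance this
  rw [Scheme.residueFieldMap_comp] at h2
  exact @IsIso.of_isIso_comp_left _ _ _ _ _ ((U : X.Opens).ι.residueFieldMap _) _ (hiso' _ _) h2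

theorem isIso_of_isAWN {X Y : Scheme.{u}} {π : Y ⟶ X} (hπ : FlatMor.IsUnivHomeo π)
    [AlgebraicGeometry.IsReduced Y] (hX : HTop.IsAWN X) : IsIso π :=
  isIso_of_rings hπ fun U _ _ _ _ _ _ hψ => hψ.bijective_of_isAWNRing (isAWN_affine hX U)

theorem isAWN_awNormalization (X : Scheme.{u}) : HTop.IsAWN (awNormalization X) := by
  intro y
  obtain ⟨U, z, rfl⟩ := Scheme.IsLocallyDirected.ι_jointly_surjective (glueData X).functor y
  let j : (glueData X).functor.obj U ⟶ awNormalization X := colimit.ι (glueData X).functor U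
  have : IsOpenImmersion j := inferInstanceAs (IsOpenImmersion (colimit.ι (glueData X).functor U))
  have : IsAffine ((glueData X).functor.obj U) :=
    inferInstanceAs (IsAffine (Spec (CommRingCat.of (awn Γ(X, U.toOpens)))))
  refine ⟨⟨j.opensRange, isAffineOpen_opensRange j⟩, ⟨z, rfl⟩, ?_⟩
  refine isAWNRing_congr
    (Iso.commRingCatIsoToRingEquiv ((Scheme.ΓSpecIso (CommRingCat.of (awn Γ(X, U.toOpens)))).symm ≪≫
      (j.appIso ⊤).symm ≪≫ (awNormalization X).presheaf.mapIso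
        (eqToIso j.image_top_eq_opensRange.symm).op)) isAWNRing_awn

theorem eq_id_of_initial {X' X : Scheme.{u}} {ν : X' ⟶ X}
    (h : ∃! k : X' ⟶ X', k ≫ ν = ν) {k : X' ⟶ X'} (hk : k ≫ ν = ν) : k = 𝟙 X' :=
  h.unique hk (Category.id_comp ν)

theorem iso_toScheme {X' X : Scheme.{u}} {ν : X' ⟶ X} (hν : HTop.IsAWNormalization ν) :
    ∃ e : awNormalization X ≅ X', e.hom ≫ ν = toScheme X := by
  obtain ⟨a, ha, -⟩ := (isAWNormalization_toScheme X).2 X' ν hν.1
  obtain ⟨b, hb, -⟩ := hν.2 _ _ (isUnivHomeo_toScheme X)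
  exact ⟨⟨a, b, eq_id_of_initial ((isAWNormalization_toScheme X).2 _ _ (isUnivHomeo_toScheme X))
      (by rw [Category.assoc, hb, ha]),
    eq_id_of_initial (hν.2 _ _ hν.1) (by rw [Category.assoc, ha, hb])⟩, ha⟩

theorem isAWN_of_isAWNormalization {X' X : Scheme.{u}} {ν : X' ⟶ X}
    (hν : HTop.IsAWNormalization ν) : HTop.IsAWN X' := by
  obtain ⟨e, -⟩ := iso_toScheme hν
  exact isAWN_of_iso e.hom (isAWN_awNormalization X)

theorem isAWNormalization_id {X : Scheme.{u}} (hX : HTop.IsAWN X) :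
    HTop.IsAWNormalization (𝟙 X) := by
  have := isReduced_of_isSeminormal (isSeminormal_of_isAWN (isAWN_awNormalization X))
  have := isIso_of_isAWN (isUnivHomeo_toScheme X) hX
  refine ⟨isUnivHomeo_id X, fun Y π hπ => ?_⟩
  obtain ⟨k, hk, hu⟩ := (isAWNormalization_toScheme X).2 Y π hπ
  refine ⟨inv (toScheme X) ≫ k, ?_, fun l hl => ?_⟩
  · show (_ ≫ _) ≫ _ = _
    rw [Category.assoc, hk, IsIso.inv_hom_id]
  · rw [IsIso.eq_inv_comp]
    exact hu _ (show (toScheme X ≫ l) ≫ π = toScheme X by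
      rw [Category.assoc, show l ≫ π = 𝟙 X from hl, Category.comp_id])

theorem isAWNormalization_of_isAWN {X Y : Scheme.{u}} {π : Y ⟶ X} (hπ : FlatMor.IsUnivHomeo π)
    (hY : HTop.IsAWN Y) : HTop.IsAWNormalization π := by
  refine ⟨hπ, fun Z ρ hρ => ?_⟩
  have : MorphismProperty.IsStableUnderBaseChange (FlatMor.IsUnivHomeo.{u}) :=
    MorphismProperty.universally_isStableUnderBaseChange _
  obtain ⟨s, hs, hu⟩ := (isAWNormalization_id hY).2 _ (pullback.fst π ρ)
    (MorphismProperty.of_isPullback (IsPullback.of_hasPullback π ρ).flip hρ)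
  refine ⟨s ≫ pullback.snd π ρ, ?_, fun h hh => ?_⟩
  · show (_ ≫ _) ≫ _ = _
    rw [Category.assoc, ← pullback.condition, ← Category.assoc,
      show s ≫ pullback.fst π ρ = 𝟙 Y from hs, Category.id_comp]
  · rw [← hu (pullback.lift (𝟙 Y) h ((Category.id_comp π).trans hh.symm))
      (pullback.lift_fst _ _ _), pullback.lift_snd]

end Groth.L28.AWN
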