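import Groth.Agent.L28.AWN.SNorm
import Groth.Prelude.Def_Pi1

/-!
Normal schemes are seminormal; normalizations factor through seminormalizations.
-/

set_option autoImplicit false
universe u

open CategoryTheory CategoryTheory.Limits AlgebraicGeometry

namespace Groth.L28.AWN

/-- An integrally closed domain is seminormal. -/
theorem isSeminormalRing_of_isIntegrallyClosed (R : Type u) [CommRing R] [IsDomain R]
    [IsIntegrallyClosed R] : HTop.IsSeminormalRing R := by
  intro x y hxy
  have hex : ∃ a : R, x = a ^ 2 ∧ y = a ^ 3 := by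
    obtain ⟨b, hb, hb'⟩ := exists_sq_cube_field (K := FractionRing R) (x := algebraMap R _ x)
      (y := algebraMap R _ y) (by rw [← map_pow, hxy, map_pow])
    obtain ⟨a, rfl⟩ := (IsIntegrallyClosed.isIntegral_iff (K := FractionRing R)).mp
      (IsIntegral.of_pow two_pos (hb ▸ isIntegral_algebraMap : IsIntegral R (b ^ 2)))
    exact ⟨a, IsFractionRing.injective R (FractionRing R) (by rw [map_pow, hb]),
      IsFractionRing.injective R (FractionRing R) (by rw [map_pow, hb'])⟩
  obtain ⟨a, ha⟩ := hex
  exact ⟨a, ha, fun b hb => eq_of_sq_cube (hb.1.symm.trans ha.1) (hb.2.symm.trans ha.2)⟩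

/-- Being seminormal is checked at the localizations at primes. -/
theorem isSeminormalRing_of_atPrime (A : Type u) [CommRing A]
    (h : ∀ (p : Ideal A) [p.IsPrime], HTop.IsSeminormalRing (Localization.AtPrime p)) :
    HTop.IsSeminormalRing A := by
  have hred : _root_.IsReduced A := isReduced_ofLocalizationMaximal A fun m _ =>
    isReduced_of_isSeminormalRing (h m)
  intro x y hxy
  have hex : ∃ a : A, x = a ^ 2 ∧ y = a ^ 3 := by
    have := fun (p : PrimeSpectrum A) => h p.asIdeal (algebraMap A _ x) (algebraMap A _ y)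
      (by rw [← map_pow, hxy, map_pow])
    choose a ha ha' using fun p => (this p).exists
    let J : Ideal A :=
      { carrier := {t | ∃ c : A, ∀ p : PrimeSpectrum A,
          algebraMap A (Localization.AtPrime p.asIdeal) t * a p = algebraMap A _ c}
        zero_mem' := ⟨0, fun p => by simp⟩
        add_mem' := by
          rintro s t ⟨c, hc⟩ ⟨d, hd⟩
          exact ⟨c + d, fun p => by rw [map_add, map_add, add_mul, hc, hd]⟩
        smul_mem' := by
          rintro r t ⟨c, hc⟩
          exact ⟨r * c, fun p => by rw [smul_eq_mul, map_mul, map_mul, mul_assoc, hc]⟩ }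
    have hJ : J = ⊤ := by
      by_contra hne
      obtain ⟨m, hm, hle⟩ := Ideal.exists_le_maximal J hne
      let q : PrimeSpectrum A := ⟨m, inferInstance⟩
      obtain ⟨⟨c, t₀⟩, ht₀⟩ := IsLocalization.surj m.primeCompl (a q)
      have e2 : algebraMap A (Localization.AtPrime m) ((t₀ : A) ^ 2 * x) = algebraMap A _ (c ^ 2) := by
        rw [map_mul, map_pow, map_pow, ← ht₀, ha q, mul_pow, mul_comm]
      have e3 : algebraMap A (Localization.AtPrime m) ((t₀ : A) ^ 3 * y) = algebraMap A _ (c ^ 3) := by
        rw [map_mul, map_pow, map_pow, ← ht₀, ha' q, mul_pow, mul_comm]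
      obtain ⟨u, hu⟩ := (IsLocalization.eq_iff_exists m.primeCompl _).mp e2
      obtain ⟨v, hv⟩ := (IsLocalization.eq_iff_exists m.primeCompl _).mp e3
      refine (mul_mem (mul_mem u.2 v.2) t₀.2 : (u : A) * v * t₀ ∈ m.primeCompl) (hle ?_)
      refine ⟨u * v * c, fun p => ?_⟩
      have : _root_.IsReduced (Localization.AtPrime p.asIdeal) := isReduced_of_isSeminormalRing (h _)
      apply eq_of_sq_cube
      · rw [mul_pow, ← ha p, ← map_pow, ← map_pow, ← map_mul]
        congr 1
        linear_combination ((u : A) * v ^ 2) * hu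
      · rw [mul_pow, ← ha' p, ← map_pow, ← map_pow, ← map_mul]
        congr 1
        linear_combination ((u : A) ^ 3 * v ^ 2) * hv
    obtain ⟨c, hc⟩ : (1 : A) ∈ J := hJ ▸ Submodule.mem_top
    have key : ∀ z w : A, (∀ p : PrimeSpectrum A,
        algebraMap A (Localization.AtPrime p.asIdeal) z = algebraMap A _ w) → z = w := fun z w hzw =>
      Module.eq_of_localization_maximal (R := A) (M := A) (fun p _ => Localization.AtPrime p)
        (fun p _ => Algebra.linearMap A (Localization.AtPrime p))
        z w fun p _ => hzw ⟨p, inferInstance⟩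
    refine ⟨c, key _ _ fun p => ?_, key _ _ fun p => ?_⟩
    · rw [ha p, map_pow, ← hc p, map_one, one_mul]
    · rw [ha' p, map_pow, ← hc p, map_one, one_mul]
  obtain ⟨a, ha⟩ := hex
  exact ⟨a, ha, fun b hb => eq_of_sq_cube (hb.1.symm.trans ha.1) (hb.2.symm.trans ha.2)⟩

theorem isSeminormal_of_isNormalScheme {X : Scheme.{u}} (h : Pi1.IsNormalScheme X) :
    HTop.IsSeminormal X := by
  intro x
  obtain ⟨U, hx⟩ := exists_affineOpen X x
  refine ⟨U, hx, isSeminormalRing_of_atPrime _ fun p hp => ?_⟩
  let y : X := U.2.fromSpec ⟨p, hp⟩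
  have hy : y ∈ (U : X.Opens) := U.2.range_fromSpec.le ⟨⟨p, hp⟩, rfl⟩
  let : Algebra Γ(X, U) (X.presheaf.stalk y) := (X.presheaf.germ U y hy).hom.toAlgebra
  have : IsLocalization.AtPrime (X.presheaf.stalk y) p := U.2.isLocalization_stalk' ⟨p, hp⟩ hy
  obtain ⟨hd, hc⟩ := h y
  exact isSeminormalRing_congr (IsLocalization.algEquiv p.primeCompl (X.presheaf.stalk y)
    (Localization.AtPrime p)).toRingEquiv (isSeminormalRing_of_isIntegrallyClosed _)

theorem exists_lift_of_isSeminormal {W X Y : Scheme.{u}} (g : W ⟶ X) (ν : Y ⟶ X)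
    (hν : FlatMor.IsUnivHomeo ν) (hres : HTop.ResidueFieldsIso ν) (hW : HTop.IsSeminormal W) :
    ∃ h : W ⟶ Y, h ≫ ν = g := by
  have : MorphismProperty.IsStableUnderBaseChange (FlatMor.IsUnivHomeo.{u}) :=
    MorphismProperty.universally_isStableUnderBaseChange _
  obtain ⟨R, i, s, -, -, -, hs, -⟩ := exists_reduced_section hW (pullback.fst g ν)
    (MorphismProperty.of_isPullback (IsPullback.of_hasPullback g ν).flip hν)
    (residueFieldsIso_pullback_fst g ν hν hres)
  exact ⟨(s ≫ i) ≫ pullback.snd g ν, by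
    rw [Category.assoc, ← pullback.condition, ← Category.assoc, Category.assoc s, hs, Category.id_comp]⟩

end Groth.L28.AWN
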