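import Groth.Prelude.Def_HTop2
import Groth.Agent.L20.UnivHomeo
import Mathlib.AlgebraicGeometry.Morphisms.Separated
import Mathlib.AlgebraicGeometry.Morphisms.Proper
import Mathlib.AlgebraicGeometry.Morphisms.Finite
import Mathlib.AlgebraicGeometry.IdealSheaf.Subscheme

/-!
Morphisms out of universal homeomorphisms factor through finite universal homeomorphisms.
-/

set_option autoImplicit false
universe u

open CategoryTheory CategoryTheory.Limits AlgebraicGeometry

namespace Groth.L28.AWN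

variable {T T' X Y Z : Scheme.{u}}

theorem residueFieldsIso_of_comp_surjective (f : X ⟶ Y) (g : Y ⟶ Z) [Surjective f]
    (h : HTop.ResidueFieldsIso (f ≫ g)) : HTop.ResidueFieldsIso g := by
  intro y
  obtain ⟨x, rfl⟩ := f.surjective y
  have := h x
  have hb := ConcreteCategory.bijective_of_isIso ((f ≫ g).residueFieldMap x)
  rw [Scheme.residueFieldMap_comp] at hb
  rw [ConcreteCategory.isIso_iff_bijective]
  refine ⟨RingHom.injective _, fun z => ?_⟩
  obtain ⟨w, hw⟩ := hb.2 (f.residueFieldMap x z)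
  exact ⟨w, RingHom.injective (f.residueFieldMap x).hom hw⟩

theorem residueFieldsIso_congr {f g : X ⟶ Y} (e : f = g) (h : HTop.ResidueFieldsIso f) :
    HTop.ResidueFieldsIso g := e ▸ h

theorem exists_finite_factor (ν : T' ⟶ T) (hν : FlatMor.IsUnivHomeo ν) (p : Y ⟶ T)
    [LocallyOfFiniteType p] [IsSeparated p] (m : T' ⟶ Y) (hm : m ≫ p = ν) :
    ∃ (T₁ : Scheme.{u}) (π : T₁ ⟶ T) (_ : IsFinite π) (_ : FlatMor.IsUnivHomeo π) (i : T₁ ⟶ Y)
      (h : T' ⟶ T₁), Surjective h ∧ h ≫ π = ν ∧ i ≫ p = π ∧ h ≫ i = m := by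
  obtain ⟨hc, hi, hs⟩ := (Groth.L20.isUnivHomeo_iff ν).mp hν
  have : UniversallyClosed (m ≫ p) := hm ▸ hc
  have : UniversallyClosed m := UniversallyClosed.of_comp_of_isSeparated m p
  have : QuasiCompact m := inferInstance
  have : UniversallyClosed (m.toImage ≫ m.imageι) := by
    rw [m.toImage_imageι]
    infer_instance
  have : UniversallyClosed m.toImage :=
    UniversallyClosed.of_comp_of_isSeparated m.toImage m.imageι
  have hsurj : Surjective m.toImage := by
    refine ⟨fun x => ?_⟩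
    have := (m.toImage.denseRange).closure_range
    rw [m.toImage.isClosedMap.isClosed_range.closure_eq] at this
    exact this.ge (Set.mem_univ x)
  let π := m.imageι ≫ p
  have hπ : m.toImage ≫ π = ν := by rw [← Category.assoc, m.toImage_imageι, hm]
  have : UniversallyClosed (m.toImage ≫ π) := hπ.symm ▸ hc
  have hπc : UniversallyClosed π := UniversallyClosed.of_comp_surjective m.toImage π
  have hπs : Surjective π := by
    have : Surjective (m.toImage ≫ π) := hπ.symm ▸ hs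
    exact Surjective.of_comp m.toImage π
  have hπi : UniversallyInjective π := by
    rw [UniversallyInjective.iff_diagonal]
    have : UniversallyInjective (m.toImage ≫ π) := hπ.symm ▸ hi
    have hd := (UniversallyInjective.iff_diagonal _).mp this
    let f := m.toImage
    let sq : pullback (f ≫ π) (f ≫ π) ⟶ pullback π π :=
      pullback.map _ _ _ _ f f (𝟙 T) (Category.comp_id _) (Category.comp_id _)
    have hsq : Surjective sq :=
      MorphismProperty.pullbackMap (P := @Surjective) hsurj hsurj rfl rfl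
    have e : f ≫ pullback.diagonal π = pullback.diagonal (f ≫ π) ≫ sq := by
      apply pullback.hom_ext
      · rw [Category.assoc, Category.assoc, pullback.diagonal_fst, Category.comp_id,
          show sq ≫ pullback.fst π π = pullback.fst (f ≫ π) (f ≫ π) ≫ f from pullback.lift_fst _ _ _,
          ← Category.assoc, pullback.diagonal_fst, Category.id_comp]
      · rw [Category.assoc, Category.assoc, pullback.diagonal_snd, Category.comp_id,
          show sq ≫ pullback.snd π π = pullback.snd (f ≫ π) (f ≫ π) ≫ f from pullback.lift_snd _ _ _,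
          ← Category.assoc, pullback.diagonal_snd, Category.id_comp]
    have : Surjective (f ≫ pullback.diagonal π) := by rw [e]; infer_instance
    exact Surjective.of_comp f _
  have hU : FlatMor.IsUnivHomeo π := (Groth.L20.isUnivHomeo_iff π).mpr ⟨hπc, hπi, hπs⟩
  have := Groth.L20.isIntegralHom_of_isUnivHomeo hU
  have hfin : IsFinite π := (IsFinite.iff_isIntegralHom_and_locallyOfFiniteType π).mpr ⟨this, inferInstance⟩
  exact ⟨m.image, π, hfin, hU, m.imageι, m.toImage, hsurj, hπ, rfl, m.toImage_imageι⟩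

theorem exists_finite_equalizer (ν : T' ⟶ T) (hν : FlatMor.IsUnivHomeo ν) [X.IsSeparated]
    {T₁ T₂ : Scheme.{u}} (π₁ : T₁ ⟶ T) (π₂ : T₂ ⟶ T) [IsFinite π₁] [IsFinite π₂]
    (hu₁ : FlatMor.IsUnivHomeo π₁) (hu₂ : FlatMor.IsUnivHomeo π₂) (g₁ : T₁ ⟶ X) (g₂ : T₂ ⟶ X)
    (h₁ : T' ⟶ T₁) (h₂ : T' ⟶ T₂) (e₁ : h₁ ≫ π₁ = ν) (e₂ : h₂ ≫ π₂ = ν)
    (e : h₁ ≫ g₁ = h₂ ≫ g₂) :
    ∃ (T₃ : Scheme.{u}) (π₃ : T₃ ⟶ T) (_ : IsFinite π₃) (_ : FlatMor.IsUnivHomeo π₃)
      (a₁ : T₃ ⟶ T₁) (a₂ : T₃ ⟶ T₂) (h : T' ⟶ T₃),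
      Surjective h ∧ h ≫ π₃ = ν ∧ a₁ ≫ π₁ = π₃ ∧ a₂ ≫ π₂ = π₃ ∧ a₁ ≫ g₁ = a₂ ≫ g₂ := by
  obtain ⟨-, -, hs⟩ := (Groth.L20.isUnivHomeo_iff ν).mp hν
  obtain ⟨hc₁, hi₁, hs₁⟩ := (Groth.L20.isUnivHomeo_iff π₁).mp hu₁
  obtain ⟨hc₂, hi₂, hs₂⟩ := (Groth.L20.isUnivHomeo_iff π₂).mp hu₂
  let b₁ := pullback.fst π₁ π₂ ≫ g₁
  let b₂ := pullback.snd π₁ π₂ ≫ g₂
  let π₁₂ := pullback.fst π₁ π₂ ≫ π₁
  have hp₁ : UniversallyInjective (pullback.fst π₁ π₂) :=
    MorphismProperty.pullback_fst (P := @UniversallyInjective) _ _ hi₂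
  have hp₂ : UniversallyClosed (pullback.fst π₁ π₂) := inferInstance
  have : UniversallyInjective π₁₂ :=
    MorphismProperty.comp_mem @UniversallyInjective _ _ hp₁ hi₁
  have : Surjective π₁₂ := by
    have : Surjective (pullback.fst π₁ π₂) :=
      MorphismProperty.pullback_fst (P := @Surjective) _ _ hs₂
    infer_instance
  have : UniversallyClosed π₁₂ := inferInstance
  let a : T' ⟶ pullback π₁ π₂ := pullback.lift h₁ h₂ (e₁.trans e₂.symm)
  have ha₁ : a ≫ pullback.fst π₁ π₂ = h₁ := pullback.lift_fst _ _ _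
  have ha₂ : a ≫ pullback.snd π₁ π₂ = h₂ := pullback.lift_snd _ _ _
  have ha : a ≫ π₁₂ = ν := by rw [← Category.assoc, ha₁, e₁]
  have hsa : Surjective a := by
    refine ⟨fun x => ?_⟩
    obtain ⟨t, ht⟩ := ν.surjective (π₁₂ x)
    refine ⟨t, π₁₂.injective ?_⟩
    rw [← ha] at ht
    exact (Scheme.Hom.comp_apply a π₁₂ t).symm.trans ht
  let h : T' ⟶ equalizer b₁ b₂ := equalizer.lift a (by rw [← Category.assoc, ha₁, ← Category.assoc, ha₂, e])
  have hh : h ≫ equalizer.ι b₁ b₂ = a := equalizer.lift_ι _ _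
  have hse : Surjective (equalizer.ι b₁ b₂) := by
    have : Surjective (h ≫ equalizer.ι b₁ b₂) := hh.symm ▸ hsa
    exact Surjective.of_comp h _
  let π₃ := equalizer.ι b₁ b₂ ≫ π₁₂
  have hu₃ : FlatMor.IsUnivHomeo π₃ :=
    (Groth.L20.isUnivHomeo_iff π₃).mpr
      ⟨inferInstance, MorphismProperty.comp_mem @UniversallyInjective _ _ inferInstance ‹_›,
        inferInstance⟩
  have hh₃ : h ≫ π₃ = ν := by rw [← Category.assoc, hh, ha]
  have hsh : Surjective h := by
    refine ⟨fun x => ?_⟩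
    obtain ⟨t, ht⟩ := ν.surjective (π₃ x)
    refine ⟨t, (Groth.L20.isHomeomorph_of_isUnivHomeo hu₃).bijective.1 ?_⟩
    rw [← hh₃] at ht
    exact (Scheme.Hom.comp_apply h π₃ t).symm.trans ht
  refine ⟨_, π₃, inferInstance, hu₃, equalizer.ι b₁ b₂ ≫ pullback.fst π₁ π₂,
    equalizer.ι b₁ b₂ ≫ pullback.snd π₁ π₂, h, hsh, hh₃, Category.assoc _ _ _, ?_, ?_⟩
  · rw [Category.assoc, ← pullback.condition]
  · rw [Category.assoc, Category.assoc]
    exact equalizer.condition b₁ b₂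

end Groth.L28.AWN
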