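import Groth.Agent.L28.AWN.Local
import Groth.Agent.L18.KerReduced

/-!
The reduction of a scheme as a universal homeomorphism.
-/

set_option autoImplicit false
universe u

open CategoryTheory AlgebraicGeometry TopologicalSpace

namespace Groth.L28.AWN

theorem exists_reduced (X : Scheme.{u}) : ∃ (Z : Scheme.{u}) (i : Z ⟶ X),
    AlgebraicGeometry.IsReduced Z ∧ FlatMor.IsUnivHomeo i ∧ HTop.ResidueFieldsIso i := by
  let I := Scheme.IdealSheafData.vanishingIdeal (X := X) ⊤
  have hred : AlgebraicGeometry.IsReduced I.subscheme :=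
    Groth.L18.isReduced_vanishingIdeal_subscheme ⊤
  have hs : Surjective I.subschemeι := ⟨fun x => by
    have : x ∈ Set.range I.subschemeι := by
      rw [Scheme.IdealSheafData.range_subschemeι]
      simp [I]
    exact this⟩
  refine ⟨I.subscheme, I.subschemeι, hred, (Groth.L20.isUnivHomeo_iff _).mpr
    ⟨inferInstance, inferInstance, hs⟩, fun x => ?_⟩
  refine (ConcreteCategory.isIso_iff_bijective _).mpr ⟨RingHom.injective _, fun z => ?_⟩
  obtain ⟨z, rfl⟩ := Scheme.residue_surjective _ x z
  obtain ⟨w, rfl⟩ := I.subschemeι.stalkMap_surjective x z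
  exact ⟨X.residue _ w, congr($(Scheme.residue_residueFieldMap I.subschemeι x).hom w)⟩

end Groth.L28.AWN
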