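import Groth.Agent.L28.AWN.Local
import Groth.Agent.L28.AWN.Red
import Mathlib.AlgebraicGeometry.PullbackCarrier

/-!
A universal homeomorphism with trivial residue extensions and seminormal source is a seminormalization.
-/

set_option autoImplicit false
universe u

open CategoryTheory CategoryTheory.Limits AlgebraicGeometry

namespace Groth.L28.AWN

variable {W X Y : Scheme.{u}}

theorem residueFieldsIso_of_isPreimmersion (f : Y ⟶ X) [IsPreimmersion f] : HTop.ResidueFieldsIso f := by
  intro x
  refine (ConcreteCategory.isIso_iff_bijective _).mpr ⟨RingHom.injective _, fun z => ?_⟩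
  obtain ⟨z, rfl⟩ := Scheme.residue_surjective _ x z
  obtain ⟨w, rfl⟩ := f.stalkMap_surjective x z
  exact ⟨X.residue _ w, congr($(Scheme.residue_residueFieldMap f x).hom w)⟩

theorem residueFieldsIso_pullback_fst (g : W ⟶ X) (π : Y ⟶ X) (hπ : FlatMor.IsUnivHomeo π)
    (hres : HTop.ResidueFieldsIso π) : HTop.ResidueFieldsIso (pullback.fst g π) := by
  intro p
  let T := Scheme.Pullback.Triplet.ofPoint p
  have := hres T.y
  have : IsIso T.tensorInl :=
    inferInstanceAs (IsIso (pushout.inl ((X.residueFieldCongr T.hx).inv ≫ g.residueFieldMap T.x)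
      ((X.residueFieldCongr T.hy).inv ≫ π.residueFieldMap T.y)))
  let σ : Spec (W.residueField T.x) ⟶ pullback g π := inv (Spec.map T.tensorInl) ≫ T.SpecTensorTo
  have hσ : σ ≫ pullback.fst g π = W.fromSpecResidueField T.x := by
    rw [Category.assoc, T.specTensorTo_fst, IsIso.inv_hom_id_assoc]
  obtain ⟨z⟩ : Nonempty (Spec (W.residueField T.x)) := inferInstance
  have hinj : Function.Injective (pullback.fst g π) :=
    haveI : UniversallyInjective (pullback.fst g π) :=
      MorphismProperty.of_isPullback (IsPullback.of_hasPullback g π).flip ((Groth.L20.isUnivHomeo_iff π).mp hπ).2.1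
    (pullback.fst g π).injective
  have hp : σ z = p := hinj (by
    rw [← Scheme.Hom.comp_apply, hσ, Scheme.fromSpecResidueField_apply]; rfl)
  rw [← hp]
  have h : IsIso ((σ ≫ pullback.fst g π).residueFieldMap z) := by
    rw [Scheme.Hom.residueFieldMap_congr hσ]
    exact IsIso.comp_isIso' inferInstance (residueFieldsIso_of_isPreimmersion _ z)
  rw [Scheme.residueFieldMap_comp] at h
  have hb := @ConcreteCategory.bijective_of_isIso _ _ _ _ _ _ _ _
    ((pullback.fst g π).residueFieldMap (σ z) ≫ σ.residueFieldMap z) h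
  refine (ConcreteCategory.isIso_iff_bijective _).mpr ⟨RingHom.injective _, fun c => ?_⟩
  obtain ⟨d, hd⟩ := hb.2 (σ.residueFieldMap z c)
  exact ⟨d, RingHom.injective (σ.residueFieldMap z).hom hd⟩

theorem isSeminormal_opens {X : Scheme.{u}} (h : HTop.IsSeminormal X) (U : X.Opens) :
    HTop.IsSeminormal U := by
  intro x
  obtain ⟨V, hx⟩ := exists_affineOpen (U : Scheme.{u}) x
  exact ⟨V, hx, isSeminormalRing_congr (Iso.commRingCatIsoToRingEquiv (U.ι.appIso (V : TopologicalSpace.Opens _)))
    (isSeminormal_affine h ⟨U.ι ''ᵁ V, V.2.image_of_isOpenImmersion U.ι⟩)⟩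

/-- a section exists for a universal homeomorphism with trivial residue extensions onto a seminormal scheme -/
theorem exists_reduced_section {P : Scheme.{u}} (hW : HTop.IsSeminormal W) (q : P ⟶ W)
    (hq : FlatMor.IsUnivHomeo q) (hres : HTop.ResidueFieldsIso q) :
    ∃ (Z : Scheme.{u}) (i : Z ⟶ P) (s : W ⟶ Z), AlgebraicGeometry.IsReduced Z ∧
      FlatMor.IsUnivHomeo i ∧ HTop.ResidueFieldsIso i ∧ s ≫ i ≫ q = 𝟙 W ∧ (i ≫ q) ≫ s = 𝟙 Z := by
  obtain ⟨Z, i, hZ, hi, hri⟩ := exists_reduced P
  haveI := hZ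
  have := isIso_of_isSeminormal (isUnivHomeo_comp hi hq) (residueFieldsIso_comp i q hri hres) hW
  exact ⟨Z, i, inv (i ≫ q), hZ, hi, hri, IsIso.inv_hom_id _, IsIso.hom_inv_id _⟩

theorem section_unique {P : Scheme.{u}} (hW : HTop.IsSeminormal W) (q : P ⟶ W)
    (hq : FlatMor.IsUnivHomeo q) (hres : HTop.ResidueFieldsIso q) {s₁ s₂ : W ⟶ P}
    (h₁ : s₁ ≫ q = 𝟙 W) (h₂ : s₂ ≫ q = 𝟙 W) : s₁ = s₂ := by
  obtain ⟨Z, i, s, hZ, hi, hri, hs, hs'⟩ := exists_reduced_section hW q hq hres
  suffices ∀ t : W ⟶ P, t ≫ q = 𝟙 W → t = s ≫ i from (this _ h₁).trans (this _ h₂).symm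
  intro t ht
  have hm : MorphismProperty.IsStableUnderBaseChange (FlatMor.IsUnivHomeo.{u}) :=
    MorphismProperty.universally_isStableUnderBaseChange _
  obtain ⟨R, j, r, -, -, -, hr, -⟩ := exists_reduced_section hW (pullback.fst t i)
    (MorphismProperty.of_isPullback (IsPullback.of_hasPullback t i).flip hi)
    (residueFieldsIso_pullback_fst t i hi hri)
  let m : W ⟶ Z := (r ≫ j) ≫ pullback.snd t i
  have hmi : m ≫ i = t := by
    rw [Category.assoc, ← pullback.condition, ← Category.assoc, Category.assoc r, hr, Category.id_comp]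
  have : m = s := by
    have := congrArg (· ≫ s) (congrArg (· ≫ q) hmi)
    simp only [ht, Category.id_comp, Category.assoc] at this
    rw [← this]
    have h' := hs'
    rw [Category.assoc] at h'
    rw [h', Category.comp_id]
  rw [← hmi, this]

theorem isSeminormalization_of_isSeminormal {ν : W ⟶ X} (hν : FlatMor.IsUnivHomeo ν)
    (hres : HTop.ResidueFieldsIso ν) (hW : HTop.IsSeminormal W) : HTop.IsSeminormalization ν := by
  refine ⟨⟨hν, hres⟩, fun Z ρ hρ hρ' => ?_⟩
  have : MorphismProperty.IsStableUnderBaseChange (FlatMor.IsUnivHomeo.{u}) :=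
    MorphismProperty.universally_isStableUnderBaseChange _
  have hq := MorphismProperty.of_isPullback (IsPullback.of_hasPullback ν ρ).flip hρ
  have hq' := residueFieldsIso_pullback_fst ν ρ hρ hρ'
  obtain ⟨R, i, s, -, -, -, hs, -⟩ := exists_reduced_section hW (pullback.fst ν ρ) hq hq'
  refine ⟨(s ≫ i) ≫ pullback.snd ν ρ, ?_, fun h hh => ?_⟩
  · show (_ ≫ _) ≫ _ = _
    rw [Category.assoc, ← pullback.condition, ← Category.assoc, Category.assoc s, hs, Category.id_comp]
  · have := congrArg (· ≫ pullback.snd ν ρ) (section_unique hW (pullback.fst ν ρ) hq hq'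
      (pullback.lift_fst (𝟙 W) h ((Category.id_comp ν).trans hh.symm))
      (show (s ≫ i) ≫ pullback.fst ν ρ = 𝟙 W by rw [Category.assoc, hs]))
    simpa only [pullback.lift_snd] using this

theorem residueFieldsIso_morphismRestrict {f : Y ⟶ X} (hf : HTop.ResidueFieldsIso f) (U : X.Opens) :
    HTop.ResidueFieldsIso (f ∣_ U) := by
  intro y
  have hiso' : ∀ {A B : Scheme.{u}} (f : A ⟶ B) [IsOpenImmersion f], HTop.ResidueFieldsIso f :=
    fun f _ x => inferInstance
  have h2 : IsIso (((f ∣_ U) ≫ U.ι).residueFieldMap y) := by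
    rw [Scheme.Hom.residueFieldMap_congr (morphismRestrict_ι f U)]
    have : IsIso (((f ⁻¹ᵁ U).ι ≫ f).residueFieldMap y) := residueFieldsIso_comp _ _ (hiso' _) hf y
    exact IsIso.comp_isIso' inferInstance this
  rw [Scheme.residueFieldMap_comp] at h2
  exact @IsIso.of_isIso_comp_left _ _ _ _ _ (U.ι.residueFieldMap _) _ (hiso' _ _) h2

end Groth.L28.AWN
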