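import Groth.Prelude.Def_HTop2
import Groth.Agent.L20.UnivHomeo
import Mathlib.RingTheory.Ideal.GoingUp
import Mathlib.FieldTheory.IsAlgClosed.AlgebraicClosure

/-!
Universal homeomorphisms of affine schemes in terms of rings; the absolute weak normalization.
-/

set_option autoImplicit false
universe u

open CategoryTheory AlgebraicGeometry

namespace Groth.L28.AWN

variable {A C : Type u} [CommRing A] [CommRing C]

/-- Ring-theoretic description of universal homeomorphisms. -/
structure IsUH (ψ : A →+* C) : Prop where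
  integral : ψ.IsIntegral
  hom_ext : ∀ (K : Type u) [Field K] (f g : C →+* K), f.comp ψ = g.comp ψ → f = g
  nil : ∀ a, ψ a = 0 → IsNilpotent a

theorem exists_comap_of_integral {ψ : A →+* C} (hi : ψ.IsIntegral)
    (hn : ∀ a, ψ a = 0 → IsNilpotent a) (p : Ideal A) [p.IsPrime] :
    ∃ q : Ideal C, q.IsPrime ∧ q.comap ψ = p := by
  algebraize [ψ]
  have : Algebra.IsIntegral A C := ⟨hi⟩
  obtain ⟨q, -, hq, hq'⟩ := Ideal.exists_ideal_over_prime_of_isIntegral p (⊥ : Ideal C) (fun a ha => by
    obtain ⟨n, hn⟩ := hn a ha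
    exact Ideal.IsPrime.mem_of_pow_mem ‹_› n (hn ▸ p.zero_mem))
  exact ⟨q, hq, hq'⟩

theorem IsUH.exists_comap {ψ : A →+* C} (h : IsUH ψ) (p : Ideal A) [p.IsPrime] :
    ∃ q : Ideal C, q.IsPrime ∧ q.comap ψ = p :=
  exists_comap_of_integral h.integral h.nil p

theorem isUnivHomeo_iff_isUH (ψ : A →+* C) :
    FlatMor.IsUnivHomeo (Spec.map (CommRingCat.ofHom ψ)) ↔ IsUH ψ := by
  constructor
  · intro h
    have hi := Groth.L20.isIntegralHom_of_isUnivHomeo h
    refine ⟨IsIntegralHom.SpecMap_iff.mp hi, fun K _ f g hfg => ?_, fun a ha => ?_⟩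
    · have hj := ((tfae_universallyInjective (Spec.map (CommRingCat.ofHom ψ))).out 0 1 :
        UniversallyInjective _ ↔ ∀ (K : Type u) [Field K], Function.Injective
          (fun g : Spec (.of K) ⟶ Spec (.of C) => g ≫ Spec.map (CommRingCat.ofHom ψ))).mp
        ((Groth.L20.isUnivHomeo_iff _).mp h).2.1 K
        (a₁ := Spec.map (CommRingCat.ofHom f)) (a₂ := Spec.map (CommRingCat.ofHom g)) (by
          show _ ≫ _ = _ ≫ _
          rw [← Spec.map_comp, ← Spec.map_comp, ← CommRingCat.ofHom_comp,
            ← CommRingCat.ofHom_comp, hfg])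
      exact congrArg CommRingCat.Hom.hom (Spec.map_injective hj)
    · have hs : Function.Surjective (PrimeSpectrum.comap ψ) :=
        (Groth.L20.isHomeomorph_of_isUnivHomeo h).bijective.2
      refine mem_nilradical.mp ?_
      rw [nilradical_eq_sInf, Ideal.mem_sInf]
      intro p hp
      obtain ⟨q, hq⟩ := hs ⟨p, hp⟩
      rw [show p = q.asIdeal.comap ψ from (congrArg PrimeSpectrum.asIdeal hq).symm, Ideal.mem_comap,
        ha]
      exact q.asIdeal.zero_mem
  · intro h
    have : IsIntegralHom (Spec.map (CommRingCat.ofHom ψ)) := IsIntegralHom.SpecMap_iff.mpr h.integral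
    refine (Groth.L20.isUnivHomeo_iff _).mpr ⟨inferInstance, ?_, ⟨fun p => ?_⟩⟩
    · refine ((tfae_universallyInjective (Spec.map (CommRingCat.ofHom ψ))).out 0 1 :
        UniversallyInjective _ ↔ ∀ (K : Type u) [Field K], Function.Injective
          (fun g : Spec (.of K) ⟶ Spec (.of C) => g ≫ Spec.map (CommRingCat.ofHom ψ))).mpr
        fun K _ f g hfg => ?_
      obtain ⟨f, rfl⟩ := Spec.map_surjective f
      obtain ⟨g, rfl⟩ := Spec.map_surjective g
      simp only [← Spec.map_comp] at hfg
      exact congrArg Spec.map (CommRingCat.hom_ext (h.hom_ext K f.hom g.hom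
        (congrArg CommRingCat.Hom.hom (Spec.map_injective hfg))))
    · obtain ⟨q, hq, hq'⟩ := h.exists_comap p.asIdeal
      exact ⟨⟨q, hq⟩, PrimeSpectrum.ext hq'⟩

theorem exists_lift_of_integral {ψ : A →+* C} (hi : ψ.IsIntegral)
    (hn : ∀ a, ψ a = 0 → IsNilpotent a) {K : Type u} [Field K] [IsAlgClosed K]
    (f : A →+* K) : ∃ g : C →+* K, g.comp ψ = f := by
  have := RingHom.ker_isPrime f
  obtain ⟨q, hq, hq'⟩ := exists_comap_of_integral hi hn (RingHom.ker f)
  let R := A ⧸ RingHom.ker f
  let S := C ⧸ q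
  let ι : R →+* S := Ideal.quotientMap q ψ hq'.ge
  have hι : Function.Injective ι := Ideal.quotientMap_injective' hq'.le
  let f' : R →+* K := Ideal.Quotient.lift _ f fun _ ha => ha
  have hf' : Function.Injective f' :=
    RingHom.lift_injective_of_ker_le_ideal _ _ le_rfl
  algebraize [ι, f']
  have : Algebra.IsIntegral R S := ⟨fun s => by
    obtain ⟨c, rfl⟩ := Ideal.Quotient.mk_surjective s
    obtain ⟨P, hP, hP'⟩ := hi c
    refine ⟨P.map (Ideal.Quotient.mk _), hP.map _, ?_⟩
    rw [Polynomial.eval₂_map]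
    have : (algebraMap R S).comp (Ideal.Quotient.mk (RingHom.ker f)) =
        (Ideal.Quotient.mk q).comp ψ := RingHom.ext fun a => rfl
    rw [this, ← Polynomial.hom_eval₂, hP', map_zero]⟩
  have : FaithfulSMul R S := (faithfulSMul_iff_algebraMap_injective R S).mpr hι
  have : FaithfulSMul R K := (faithfulSMul_iff_algebraMap_injective R K).mpr hf'
  have : Module.IsTorsionFree R S := Module.isTorsionFree_iff_algebraMap_injective.mpr hι
  have : Module.IsTorsionFree R K := Module.isTorsionFree_iff_algebraMap_injective.mpr hf'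
  let g : S →ₐ[R] K := IsAlgClosed.lift
  exact ⟨g.toRingHom.comp (Ideal.Quotient.mk q),
    RingHom.ext fun a => g.commutes (Ideal.Quotient.mk _ a)⟩

theorem IsUH.exists_lift {ψ : A →+* C} (h : IsUH ψ) {K : Type u} [Field K] [IsAlgClosed K]
    (f : A →+* K) : ∃ g : C →+* K, g.comp ψ = f :=
  exists_lift_of_integral h.integral h.nil f

variable (A) in
/-- A product of algebraically closed fields through which all points of `A` factor. -/
abbrev Pts : Type u := ∀ p : PrimeSpectrum A, AlgebraicClosure p.asIdeal.ResidueField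

variable (A) in
/-- The subalgebra of `Pts A` generated by all universally homeomorphic subalgebras. -/
noncomputable def awn : Subalgebra A (Pts A) :=
  sSup {S : Subalgebra A (Pts A) | IsUH (algebraMap A S)}

theorem isNilpotent_of_algebraMap_pts (a : A) (ha : algebraMap A (Pts A) a = 0) : IsNilpotent a := by
  refine mem_nilradical.mp ?_
  rw [nilradical_eq_sInf, Ideal.mem_sInf]
  intro p hp
  have : p.IsPrime := hp
  have h0 : algebraMap p.ResidueField (AlgebraicClosure p.ResidueField)
      (algebraMap A p.ResidueField a) = 0 := by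
    rw [← IsScalarTower.algebraMap_apply]
    exact congrFun ha ⟨p, hp⟩
  exact Ideal.algebraMap_residueField_eq_zero.mp
    ((injective_iff_map_eq_zero _).mp (algebraMap p.ResidueField _).injective _ h0)

theorem isUH_awn : IsUH (algebraMap A (awn A)) := by
  refine ⟨fun x => ?_, fun K _ f g hfg => ?_, fun a ha =>
    isNilpotent_of_algebraMap_pts a (congrArg Subtype.val ha)⟩
  · have hle : awn A ≤ integralClosure A (Pts A) := by
      refine sSup_le fun S hS y hy => ?_
      exact IsIntegral.map S.val (hS.integral ⟨y, hy⟩)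
    exact (isIntegral_algHom_iff (awn A).val Subtype.val_injective).mp (hle x.2)
  · let K' : Subalgebra A (Pts A) :=
      { carrier := {y | ∃ hy : y ∈ awn A, f ⟨y, hy⟩ = g ⟨y, hy⟩}
        mul_mem' := fun {a b} ⟨ha, ea⟩ ⟨hb, eb⟩ => ⟨mul_mem ha hb,
          ((map_mul f ⟨a, ha⟩ ⟨b, hb⟩).trans (by rw [ea, eb])).trans (map_mul g ⟨a, ha⟩ ⟨b, hb⟩).symm⟩
        add_mem' := fun {a b} ⟨ha, ea⟩ ⟨hb, eb⟩ => ⟨add_mem ha hb,
          ((map_add f ⟨a, ha⟩ ⟨b, hb⟩).trans (by rw [ea, eb])).trans (map_add g ⟨a, ha⟩ ⟨b, hb⟩).symm⟩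
        algebraMap_mem' := fun a => ⟨Subalgebra.algebraMap_mem _ a, RingHom.congr_fun hfg a⟩ }
    have hle : awn A ≤ K' := by
      refine sSup_le fun S hS y hy => ?_
      have hSle : S ≤ awn A := le_sSup hS
      refine ⟨hSle hy, ?_⟩
      exact RingHom.congr_fun (hS.hom_ext K (f.comp (Subalgebra.inclusion hSle).toRingHom)
        (g.comp (Subalgebra.inclusion hSle).toRingHom) hfg) ⟨y, hy⟩
    exact RingHom.ext fun x => (hle x.2).2

theorem existsUnique_to_awn {ψ : A →+* C} (h : IsUH ψ) :
    ∃! χ : C →+* awn A, χ.comp ψ = algebraMap A (awn A) := by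
  choose g hg using fun p : PrimeSpectrum A =>
    h.exists_lift (algebraMap A (AlgebraicClosure p.asIdeal.ResidueField))
  algebraize [ψ]
  let χ₀ : C →ₐ[A] Pts A :=
    { RingHom.pi g with commutes' := fun a => funext fun p => RingHom.congr_fun (hg p) a }
  have hS : IsUH (algebraMap A χ₀.range) := by
    refine ⟨?_, fun K _ f f' hff => ?_, fun a ha =>
      isNilpotent_of_algebraMap_pts a (congrArg Subtype.val ha)⟩
    · rintro ⟨_, c, rfl⟩
      have h1 : IsIntegral A c := h.integral c
      exact h1.map χ₀.rangeRestrict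
    · have := h.hom_ext K (f.comp χ₀.rangeRestrict.toRingHom) (f'.comp χ₀.rangeRestrict.toRingHom)
        (by
          have e : χ₀.rangeRestrict.toRingHom.comp ψ = algebraMap A χ₀.range :=
            RingHom.ext fun a => χ₀.rangeRestrict.commutes a
          rw [RingHom.comp_assoc, RingHom.comp_assoc, e, hff])
      ext x
      obtain ⟨c, rfl⟩ := χ₀.rangeRestrict_surjective x
      exact RingHom.congr_fun this c
  have hle : χ₀.range ≤ awn A := le_sSup hS
  refine ⟨((Subalgebra.inclusion hle).comp χ₀.rangeRestrict).toRingHom,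
    RingHom.ext fun a => ((Subalgebra.inclusion hle).comp χ₀.rangeRestrict).commutes a,
    fun χ hχ => RingHom.ext fun c => Subtype.ext (funext fun p => ?_)⟩
  exact RingHom.congr_fun (h.hom_ext _
    ((Pi.evalRingHom _ p).comp ((awn A).val.toRingHom.comp χ)) (g p) (by
      rw [hg p]
      exact RingHom.ext fun a => congrFun (congrArg Subtype.val (RingHom.congr_fun hχ a)) p)) c

theorem isRingAWN_awn : HTop.IsRingAWN (algebraMap A (awn A)) :=
  ⟨(isUnivHomeo_iff_isUH _).mpr isUH_awn,
    fun _ _ _ hψ => existsUnique_to_awn ((isUnivHomeo_iff_isUH _).mp hψ)⟩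

end Groth.L28.AWN
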