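import Groth.Agent.L28.AWN.Basic
import Mathlib.RingTheory.Polynomial.ScaleRoots
import Mathlib.RingTheory.Localization.Integral
import Mathlib.RingTheory.Localization.Away.Basic

/-!
Functoriality of the absolute weak normalization and its compatibility with localization.
-/

set_option autoImplicit false
universe u

open CategoryTheory AlgebraicGeometry Polynomial

namespace Groth.L28.AWN

variable {A C A' : Type u} [CommRing A] [CommRing C] [CommRing A']

theorem IsUH.comap_injective {ψ : A →+* C} (h : IsUH ψ) :
    Function.Injective (PrimeSpectrum.comap ψ) :=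
  (Groth.L20.isHomeomorph_of_isUnivHomeo ((isUnivHomeo_iff_isUH ψ).mpr h)).bijective.1

theorem IsUH.hom_ext_awn {ψ : A →+* C} (h : IsUH ψ) {f g : C →+* awn A'}
    (hfg : f.comp ψ = g.comp ψ) : f = g := by
  refine RingHom.ext fun c => Subtype.ext (funext fun p => ?_)
  exact RingHom.congr_fun (h.hom_ext _
    ((Pi.evalRingHom _ p).comp ((awn A').val.toRingHom.comp f))
    ((Pi.evalRingHom _ p).comp ((awn A').val.toRingHom.comp g)) (by
      rw [RingHom.comp_assoc, RingHom.comp_assoc, RingHom.comp_assoc, RingHom.comp_assoc, hfg])) c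

theorem exists_map (h : A →+* A') :
    ∃ m : awn A →+* awn A', m.comp (algebraMap A (awn A)) = (algebraMap A' (awn A')).comp h := by
  choose g hg using fun p : PrimeSpectrum A' =>
    isUH_awn.exists_lift ((algebraMap A' (AlgebraicClosure p.asIdeal.ResidueField)).comp h)
  let m₀ : awn A →+* Pts A' := RingHom.pi g
  have hm₀ : ∀ a, m₀ (algebraMap A (awn A) a) = algebraMap A' (Pts A') (h a) := fun a =>
    funext fun p => RingHom.congr_fun (hg p) a
  let S : Subalgebra A' (Pts A') := Algebra.adjoin A' (Set.range m₀)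
  have hS : IsUH (algebraMap A' S) := by
    refine ⟨fun x => ?_, fun K _ f f' hff => ?_, fun a ha =>
      isNilpotent_of_algebraMap_pts a (congrArg Subtype.val ha)⟩
    · have hle : S ≤ integralClosure A' (Pts A') := by
        refine Algebra.adjoin_le ?_
        rintro _ ⟨x, rfl⟩
        obtain ⟨P, hP, hP'⟩ := (isUH_awn (A := A)).integral x
        refine ⟨P.map h, hP.map _, ?_⟩
        rw [eval₂_map, show (algebraMap A' (Pts A')).comp h = m₀.comp (algebraMap A (awn A)) from
          RingHom.ext fun a => (hm₀ a).symm, ← hom_eval₂, hP', map_zero]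
      exact (isIntegral_algHom_iff S.val Subtype.val_injective).mp (hle x.2)
    · let i : awn A →+* S := m₀.codRestrict S fun x => Algebra.subset_adjoin ⟨x, rfl⟩
      have e : i.comp (algebraMap A (awn A)) = (algebraMap A' S).comp h :=
        RingHom.ext fun a => Subtype.ext (hm₀ a)
      have key := isUH_awn.hom_ext K (f.comp i) (f'.comp i) (by
        rw [RingHom.comp_assoc, RingHom.comp_assoc, e, ← RingHom.comp_assoc, ← RingHom.comp_assoc,
          hff])
      refine RingHom.ext fun ⟨x, hx⟩ => ?_
      induction hx using Algebra.adjoin_induction with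
      | mem y hy =>
        obtain ⟨z, rfl⟩ := hy
        exact RingHom.congr_fun key z
      | algebraMap a => exact RingHom.congr_fun hff a
      | add y z hy hz iy iz =>
        exact ((map_add f ⟨y, hy⟩ ⟨z, hz⟩).trans (by rw [iy, iz])).trans
          (map_add f' ⟨y, hy⟩ ⟨z, hz⟩).symm
      | mul y z hy hz iy iz =>
        exact ((map_mul f ⟨y, hy⟩ ⟨z, hz⟩).trans (by rw [iy, iz])).trans
          (map_mul f' ⟨y, hy⟩ ⟨z, hz⟩).symm
  have hle : S ≤ awn A' := le_sSup hS
  exact ⟨m₀.codRestrict (awn A') fun x => hle (Algebra.subset_adjoin ⟨x, rfl⟩),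
    RingHom.ext fun a => Subtype.ext (hm₀ a)⟩

/-- Functoriality. -/
noncomputable def map (h : A →+* A') : awn A →+* awn A' := (exists_map h).choose

theorem map_algebraMap (h : A →+* A') :
    (map h).comp (algebraMap A (awn A)) = (algebraMap A' (awn A')).comp h :=
  (exists_map h).choose_spec

theorem map_id : map (RingHom.id A) = RingHom.id (awn A) :=
  isUH_awn.hom_ext_awn (by rw [map_algebraMap]; rfl)

theorem map_comp {A'' : Type u} [CommRing A''] (h : A →+* A') (h' : A' →+* A'') :
    map (h'.comp h) = (map h').comp (map h) :=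
  isUH_awn.hom_ext_awn (by
    rw [map_algebraMap, RingHom.comp_assoc, map_algebraMap, ← RingHom.comp_assoc,
      ← RingHom.comp_assoc, map_algebraMap])

section localization

variable [Algebra A A'] (f : A)

open scoped Classical in
/-- Extension by zero of a coordinate family off `V(f)`. -/
noncomputable def extZero (c : ∀ t : {p : PrimeSpectrum A // f ∉ p.asIdeal},
    AlgebraicClosure t.1.asIdeal.ResidueField) : Pts A :=
  fun p => if h : f ∉ p.asIdeal then c ⟨p, h⟩ else 0

lemma extZero_of_mem (c) (p : PrimeSpectrum A) (hp : f ∈ p.asIdeal) : extZero f c p = 0 :=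
  dif_neg (not_not_intro hp)

lemma algebraMap_pts_of_mem (p : PrimeSpectrum A) (hp : f ∈ p.asIdeal) :
    algebraMap A (Pts A) f p = 0 := by
  show algebraMap A (AlgebraicClosure p.asIdeal.ResidueField) f = 0
  rw [IsScalarTower.algebraMap_apply A p.asIdeal.ResidueField,
    Ideal.algebraMap_residueField_eq_zero.mpr hp, map_zero]

theorem isLocalization_awn [IsLocalization.Away f A'] :
    letI := (map (algebraMap A A')).toAlgebra
    IsLocalization.Away (algebraMap A (awn A) f) (awn A') := by
  let := (map (algebraMap A A')).toAlgebra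
  let ρ := map (algebraMap A A')
  have hρ : ρ.comp (algebraMap A (awn A)) = (algebraMap A' (awn A')).comp (algebraMap A A') :=
    map_algebraMap _
  have hf : ∀ t : {p : PrimeSpectrum A // f ∉ p.asIdeal},
      IsUnit (algebraMap A (AlgebraicClosure t.1.asIdeal.ResidueField) f) := fun t => by
    rw [isUnit_iff_ne_zero, IsScalarTower.algebraMap_apply A t.1.asIdeal.ResidueField, _root_.map_ne_zero]
    exact fun h => t.2 (Ideal.algebraMap_residueField_eq_zero.mp h)
  have hg : ∀ t : {p : PrimeSpectrum A // f ∉ p.asIdeal},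
      ∃ g : awn A' →+* AlgebraicClosure t.1.asIdeal.ResidueField,
        g.comp ((algebraMap A' (awn A')).comp (algebraMap A A')) = algebraMap A _ := fun t => by
    obtain ⟨g, hg⟩ := (isUH_awn (A := A')).exists_lift (IsLocalization.Away.lift f (hf t))
    refine ⟨g, ?_⟩
    rw [← RingHom.comp_assoc, hg, IsLocalization.Away.lift_comp]
  choose g hg using hg
  have hev : ∀ t x, g t (ρ x) = (x : Pts A) t.1 := fun t x => RingHom.congr_fun (isUH_awn.hom_ext _
    ((g t).comp ρ) ((Pi.evalRingHom _ t.1).comp (awn A).val.toRingHom) (by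
      rw [RingHom.comp_assoc, hρ, hg t]; rfl)) x
  have hinj : ∀ d, (∀ t, g t d = 0) → d = 0 := by
    intro d hd
    have hn : IsNilpotent d := by
      refine mem_nilradical.mp ?_
      rw [nilradical_eq_sInf, Ideal.mem_sInf]
      intro q hq
      let P : PrimeSpectrum (awn A') := ⟨q, hq⟩
      let p := PrimeSpectrum.comap (algebraMap A A') (PrimeSpectrum.comap (algebraMap A' (awn A')) P)
      have hp : f ∉ p.asIdeal := fun h =>
        (PrimeSpectrum.comap (algebraMap A' (awn A')) P).isPrime.ne_top
          (Ideal.eq_top_of_isUnit_mem _ h (IsLocalization.Away.algebraMap_isUnit f))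
      let Q : PrimeSpectrum (awn A') := ⟨RingHom.ker (g ⟨p, hp⟩), RingHom.ker_isPrime _⟩
      have hQ : P = Q := by
        refine isUH_awn.comap_injective (PrimeSpectrum.localization_comap_injective A' (.powers f) ?_)
        show p = _
        refine PrimeSpectrum.ext ?_
        show p.asIdeal = ((RingHom.ker (g ⟨p, hp⟩)).comap (algebraMap A' (awn A'))).comap (algebraMap A A')
        ext a
        rw [Ideal.mem_comap, Ideal.mem_comap, RingHom.mem_ker]
        have := RingHom.congr_fun (hg ⟨p, hp⟩) a
        simp only [RingHom.comp_apply] at this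
        rw [this, IsScalarTower.algebraMap_apply A p.asIdeal.ResidueField, _root_.map_eq_zero]
        exact Ideal.algebraMap_residueField_eq_zero.symm
      rw [show q = Q.asIdeal from congrArg PrimeSpectrum.asIdeal hQ]
      exact hd _
    obtain ⟨n, hn⟩ := hn
    exact Subtype.ext (IsReduced.eq_zero _ ⟨n, congrArg Subtype.val hn⟩)
  have hker : ∀ x, ρ x = 0 → algebraMap A (awn A) f * x = 0 := by
    intro x hx
    refine Subtype.ext (funext fun p => ?_)
    show algebraMap A (Pts A) f p * (x : Pts A) p = 0
    by_cases hp : f ∈ p.asIdeal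
    · rw [algebraMap_pts_of_mem f p hp, zero_mul]
    · rw [← hev ⟨p, hp⟩ x, hx, map_zero, mul_zero]
  refine IsLocalization.Away.mk (algebraMap A (awn A) f) ?_ ?_ ?_
  · show IsUnit (ρ (algebraMap A (awn A) f))
    rw [← RingHom.comp_apply, hρ]
    exact (IsLocalization.Away.algebraMap_isUnit f).map (algebraMap A' (awn A'))
  swap
  · intro a b hab
    refine ⟨1, ?_⟩
    have h0 := hker (a - b) (by rw [map_sub]; exact sub_eq_zero.mpr hab)
    rwa [mul_sub, sub_eq_zero, ← pow_one (algebraMap A (awn A) f)] at h0
  -- surjectivity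
  intro c
  let := ((algebraMap A' (awn A')).comp (algebraMap A A')).toAlgebra
  have : IsScalarTower A A' (awn A') := .of_algebraMap_eq' rfl
  obtain ⟨⟨_, m, rfl⟩, hm⟩ := IsIntegral.exists_multiple_integral_of_isLocalization
    (R := A) (Submonoid.powers f) c (isUH_awn.integral c)
  obtain ⟨P, hP, hP'⟩ := hm
  let e : awn A' := algebraMap A (awn A') (f ^ m) * c
  have he : eval₂ (algebraMap A (awn A')) e P = 0 := by
    rw [← hP', Submonoid.smul_def, Algebra.smul_def]
  let b'' : Pts A := extZero f fun t => g t e
  let b' : Pts A := algebraMap A (Pts A) f * b''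
  have hroot : eval₂ (algebraMap A (Pts A)) b' ((X * P).scaleRoots f) = 0 := by
    refine scaleRoots_eval₂_eq_zero _ ?_
    refine funext fun p => ?_
    rw [eval₂_mul, eval₂_X, Pi.mul_apply, Pi.zero_apply]
    by_cases hp : f ∈ p.asIdeal
    · rw [show b'' p = 0 from extZero_of_mem f _ p hp, zero_mul]
    · have h1 : b'' p = g ⟨p, hp⟩ e := dif_pos hp
      have h2 : eval₂ (algebraMap A (Pts A)) b'' P p =
          eval₂ (algebraMap A (AlgebraicClosure p.asIdeal.ResidueField)) (b'' p) P :=
        hom_eval₂ P (algebraMap A (Pts A)) (Pi.evalRingHom _ p) b''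
      rw [h2, h1, ← hg ⟨p, hp⟩]
      change g ⟨p, hp⟩ e * eval₂ ((g ⟨p, hp⟩).comp (algebraMap A (awn A'))) (g ⟨p, hp⟩ e) P = 0
      rw [← hom_eval₂, he, map_zero, mul_zero]
  have hmon : ((X * P).scaleRoots f).Monic := (monic_scaleRoots_iff f).mpr (monic_X.mul hP)
  let S : Subalgebra A (Pts A) := Algebra.adjoin A {b'}
  have hb' : ∀ t, g t (algebraMap A (awn A') f * e) = b' t.1 := by
    intro t
    have h3 : g t (algebraMap A (awn A') f) = algebraMap A (Pts A) f t.1 :=
      RingHom.congr_fun (hg t) f
    rw [map_mul, h3, ← show b'' t.1 = g t e from dif_pos t.2]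
    rfl
  have hbS : b' ∈ S := Algebra.subset_adjoin rfl
  have hS : IsUH (algebraMap A S) := by
    refine ⟨fun x => ?_, fun K _ h₁ h₂ hh => ?_, fun a ha =>
      isNilpotent_of_algebraMap_pts a (congrArg Subtype.val ha)⟩
    · have hle : S ≤ integralClosure A (Pts A) :=
        Algebra.adjoin_le (Set.singleton_subset_iff.mpr ⟨_, hmon, hroot⟩)
      exact (isIntegral_algHom_iff S.val Subtype.val_injective).mp (hle x.2)
    suffices key : h₁ ⟨b', hbS⟩ = h₂ ⟨b', hbS⟩ by
      refine RingHom.ext fun ⟨x, hx⟩ => ?_
      induction hx using Algebra.adjoin_induction with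
      | mem y hy => obtain rfl := hy; exact key
      | algebraMap a => exact RingHom.congr_fun hh a
      | add y z hy hz iy iz =>
        exact ((map_add h₁ ⟨y, hy⟩ ⟨z, hz⟩).trans (by rw [iy, iz])).trans
          (map_add h₂ ⟨y, hy⟩ ⟨z, hz⟩).symm
      | mul y z hy hz iy iz =>
        exact ((map_mul h₁ ⟨y, hy⟩ ⟨z, hz⟩).trans (by rw [iy, iz])).trans
          (map_mul h₂ ⟨y, hy⟩ ⟨z, hz⟩).symm
    by_cases hf0 : h₁ (algebraMap A S f) = 0
    · have h0 : ∀ h : S →+* K, h (algebraMap A S f) = 0 → h ⟨b', hbS⟩ = 0 := by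
        intro h h0
        have hev' : eval₂ (algebraMap A S) ⟨b', hbS⟩ ((X * P).scaleRoots f) = 0 :=
          Subtype.ext ((hom_eval₂ _ (algebraMap A S) S.val.toRingHom ⟨b', hbS⟩).trans hroot)
        have h4 := congrArg h hev'
        have hlc : (h.comp (algebraMap A S)) (X * P).leadingCoeff ≠ 0 := by
          rw [(monic_X.mul hP).leadingCoeff, map_one]
          exact one_ne_zero
        rw [hom_eval₂, ← eval_map, map_scaleRoots _ _ _ hlc, show (h.comp (algebraMap A S)) f = 0 from h0,
          scaleRoots_zero, map_zero, smul_eq_C_mul, eval_mul, eval_C, eval_pow, eval_X,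
          ((monic_X.mul hP).map _).leadingCoeff, one_mul] at h4
        exact (pow_eq_zero_iff'.mp h4).1
      rw [h0 h₁ hf0, h0 h₂ ((RingHom.congr_fun hh f).symm.trans hf0)]
    · have hσ : ∀ s : S, ∃ d : awn A', ∀ t, g t d = (s : Pts A) t.1 := by
        rintro ⟨x, hx⟩
        induction hx using Algebra.adjoin_induction with
        | mem y hy => obtain rfl := hy; exact ⟨_, hb'⟩
        | algebraMap a =>
          exact ⟨algebraMap A (awn A') a, fun t => RingHom.congr_fun (hg t) a⟩
        | add y z hy hz iy iz =>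
          obtain ⟨d, hd⟩ := iy
          obtain ⟨d', hd'⟩ := iz
          exact ⟨d + d', fun t => (map_add (g t) d d').trans (by rw [hd, hd']; rfl)⟩
        | mul y z hy hz iy iz =>
          obtain ⟨d, hd⟩ := iy
          obtain ⟨d', hd'⟩ := iz
          exact ⟨d * d', fun t => (map_mul (g t) d d').trans (by rw [hd, hd']; rfl)⟩
      choose σ hσ' using hσ
      have hext : ∀ d d', (∀ t, g t d = g t d') → d = d' := fun d d' h =>
        sub_eq_zero.mp (hinj _ fun t => by rw [map_sub, h t, sub_self])
      let σ' : S →+* awn A' :=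
        { toFun := σ
          map_one' := hext _ _ fun t => by rw [hσ', map_one]; rfl
          map_zero' := hext _ _ fun t => by rw [hσ', map_zero]; rfl
          map_add' := fun x y => hext _ _ fun t => by rw [map_add, hσ', hσ', hσ']; rfl
          map_mul' := fun x y => hext _ _ fun t => by rw [map_mul, hσ', hσ', hσ']; rfl }
      have hσalg : σ'.comp (algebraMap A S) = algebraMap A (awn A') := RingHom.ext fun a =>
        hext _ _ fun t => (hσ' _ t).trans (RingHom.congr_fun (hg t) a).symm
      let fS : S := algebraMap A S f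
      have hu : IsUnit (σ' fS) := by
        rw [show σ' fS = algebraMap A (awn A') f from RingHom.congr_fun hσalg f]
        exact (IsLocalization.Away.algebraMap_isUnit f).map (algebraMap A' (awn A'))
      let Sf := Localization.Away fS
      let σf : Sf →+* awn A' := IsLocalization.Away.lift fS hu
      have hσf : σf.comp (algebraMap S Sf) = σ' := IsLocalization.Away.lift_comp _ _
      have hi : σf.IsIntegral := by
        let iA : A' →+* Sf := IsLocalization.Away.lift f (g := (algebraMap S Sf).comp (algebraMap A S))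
          (IsLocalization.Away.algebraMap_isUnit fS)
        have e1 : σf.comp iA = algebraMap A' (awn A') := by
          refine IsLocalization.ringHom_ext (Submonoid.powers f) ?_
          rw [RingHom.comp_assoc, IsLocalization.Away.lift_comp, ← RingHom.comp_assoc, hσf, hσalg]
          rfl
        exact RingHom.IsIntegral.tower_top iA σf (by rw [e1]; exact isUH_awn.integral)
      have hn : ∀ s, σf s = 0 → IsNilpotent s := by
        intro s hs
        obtain ⟨⟨x, ⟨_, k, rfl⟩⟩, hx⟩ := IsLocalization.surj (Submonoid.powers fS) s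
        have hx0 : σ' x = 0 := by
          rw [← hσf, RingHom.comp_apply, ← hx, map_mul, hs, zero_mul]
        have hfx : fS * x = 0 := Subtype.ext <| funext fun p => by
          show algebraMap A (Pts A) f p * (x : Pts A) p = 0
          by_cases hp : f ∈ p.asIdeal
          · rw [algebraMap_pts_of_mem f p hp, zero_mul]
          · rw [← hσ' x ⟨p, hp⟩, show σ x = 0 from hx0, map_zero, mul_zero]
        have hs0 : s = 0 := by
          refine ((IsLocalization.Away.algebraMap_isUnit fS).pow k).mul_left_eq_zero.mp ?_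
          rw [← map_pow, hx]
          exact (IsLocalization.map_eq_zero_iff (Submonoid.powers fS) Sf x).mpr
            ⟨⟨fS, Submonoid.mem_powers fS⟩, hfx⟩
        exact hs0 ▸ IsNilpotent.zero
      let ι := algebraMap K (AlgebraicClosure K)
      have hunit : ∀ h : S →+* K, h fS ≠ 0 → IsUnit ((ι.comp h) fS) := fun h hne =>
        (isUnit_iff_ne_zero.mpr hne).map ι
      have hne2 : h₂ fS ≠ 0 := fun h => hf0 ((RingHom.congr_fun hh f).trans h)
      obtain ⟨k₁, hk₁⟩ := exists_lift_of_integral hi hn
        (IsLocalization.Away.lift fS (hunit h₁ hf0) : Sf →+* _)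
      obtain ⟨k₂, hk₂⟩ := exists_lift_of_integral hi hn
        (IsLocalization.Away.lift fS (hunit h₂ hne2) : Sf →+* _)
      have ek₁ : k₁.comp σ' = ι.comp h₁ := by
        rw [← hσf, ← RingHom.comp_assoc, hk₁, IsLocalization.Away.lift_comp]
      have ek₂ : k₂.comp σ' = ι.comp h₂ := by
        rw [← hσf, ← RingHom.comp_assoc, hk₂, IsLocalization.Away.lift_comp]
      have hk : k₁ = k₂ := by
        refine isUH_awn.hom_ext _ k₁ k₂ (IsLocalization.ringHom_ext (Submonoid.powers f) ?_)
        show k₁.comp (algebraMap A (awn A')) = k₂.comp (algebraMap A (awn A'))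
        rw [← hσalg, ← RingHom.comp_assoc, ← RingHom.comp_assoc, ek₁, ek₂, RingHom.comp_assoc,
          RingHom.comp_assoc, hh]
      exact ι.injective (RingHom.congr_fun (ek₁.symm.trans ((congrArg (·.comp σ') hk).trans ek₂)) _)
  refine ⟨m + 1, ⟨b', le_sSup (α := Subalgebra A (Pts A)) hS hbS⟩, ?_⟩
  symm
  show ρ _ = c * ρ (algebraMap A (awn A) f) ^ (m + 1)
  rw [← RingHom.comp_apply ρ (algebraMap A (awn A)), hρ]
  refine sub_eq_zero.mp (hinj _ fun t => ?_)
  rw [map_sub, sub_eq_zero, hev]
  show b' t.1 = g t (c * algebraMap A (awn A') f ^ (m + 1))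
  rw [← hb' t]
  congr 1
  simp only [e, map_pow]
  ring

end localization

end Groth.L28.AWN
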